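import Cfsg.Agent.S0215

/-!
# Thompson's transfer lemma with a control of centralisers, and isolated involutions
-/

set_option autoImplicit false

namespace Cfsg.Agent.H48.GTwoFusion

open Subgroup

variable {G : Type*} [Group G] [Finite G]

/-- In a group without normal subgroups of index two, an involution `u` of a Sylow 2-subgroup `P` has a conjugate
in a given maximal subgroup `Q` of `P` such that a given 2-group centralising `u` is carried into `P`. -/
theorem transfer_extremal (hno : ∀ N : Subgroup G, N.Normal → N.index ≠ 2) (P : Sylow 2 G) (Q : Subgroup G)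
    (hQP : Q ≤ (P : Subgroup G)) (hQi : Q.relIndex (P : Subgroup G) = 2) (u : G) (hu : orderOf u = 2)
    (R : Subgroup G) (hR : IsPGroup 2 R) (hRu : ∀ r ∈ R, r * u = u * r) :
    ∃ g : G, g * u * g⁻¹ ∈ Q ∧ ∀ r ∈ R, g * r * g⁻¹ ∈ (P : Subgroup G) := by
  classical
  have := Fintype.ofFinite (G ⧸ Q)
  have := Fintype.ofFinite (G ⧸ (P : Subgroup G))
  have : Fact (Nat.Prime 2) := ⟨Nat.prime_two⟩
  -- the sign of `u` on the cosets of `Q` is trivial
  have hsign : Equiv.Perm.sign (MulAction.toPermHom G (G ⧸ Q) u) = 1 := by
    let f : G →* ℤˣ := Equiv.Perm.sign.comp (MulAction.toPermHom G (G ⧸ Q))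
    by_contra hne
    have hfu : f u ≠ 1 := hne
    refine hno f.ker inferInstance ?_
    rw [index_ker, MonoidHom.range_eq_top.mpr, card_top, Nat.card_eq_fintype_card, Fintype.card_units_int]
    intro z
    rcases Int.units_eq_one_or z with rfl | rfl
    · exact ⟨1, map_one f⟩
    · exact ⟨u, (Int.units_eq_one_or (f u)).resolve_left hfu⟩
  set F := Finset.univ.filter (fun q : G ⧸ Q => u • q = q) with hF
  set π : G ⧸ Q → G ⧸ (P : Subgroup G) := quotientMapOfLE hQP with hπ
  have hnormal : ∀ s ∈ (P : Subgroup G), ∀ x ∈ Q, s * x * s⁻¹ ∈ Q := by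
    intro s hs x hx
    have h2 : (Q.subgroupOf (P : Subgroup G)).index = 2 := hQi
    have := (Subgroup.normal_of_index_eq_two h2).conj_mem ⟨x, hQP hx⟩ hx ⟨s, hs⟩
    exact this
  have hfib : ∀ q ∈ F.image π, (F.filter fun x => π x = q).card = 2 := by
    intro q hq
    obtain ⟨x₀, hx₀, rfl⟩ := Finset.mem_image.1 hq
    induction x₀ using QuotientGroup.induction_on with
    | H g =>
      have hgQ : g⁻¹ * u * g ∈ Q := by
        have h := (Finset.mem_filter.1 hx₀).2
        rw [MulAction.Quotient.smul_mk, QuotientGroup.eq] at h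
        simpa [smul_eq_mul, mul_assoc] using Q.inv_mem h
      have hmem : ∀ x : G ⧸ Q, π x = π (g : G ⧸ Q) → x ∈ F := by
        intro x hx
        induction x using QuotientGroup.induction_on with
        | H h =>
          have hs : h⁻¹ * g ∈ (P : Subgroup G) := QuotientGroup.eq.1 (by simpa [hπ] using hx)
          refine Finset.mem_filter.2 ⟨Finset.mem_univ _, ?_⟩
          rw [MulAction.Quotient.smul_mk, QuotientGroup.eq]
          have h1 := hnormal _ hs _ hgQ
          have := Q.inv_mem h1
          simpa [smul_eq_mul, mul_assoc] using this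
      have hcard : Nat.card {x : G ⧸ Q // π x = π (g : G ⧸ Q)} = 2 := by
        refine Eq.trans ?_ hQi
        refine (Nat.card_congr (Equiv.ofBijective
          (fun s : (P : Subgroup G) ⧸ Q.subgroupOf (P : Subgroup G) =>
            Quotient.liftOn' s (fun s : (P : Subgroup G) => (⟨((g * (s : G) : G) : G ⧸ Q), by
              show π _ = π _
              simp only [hπ, quotientMapOfLE_apply_mk]
              exact QuotientGroup.eq.2 (by simp [mul_assoc])⟩ : {x : G ⧸ Q // π x = π (g : G ⧸ Q)}))
              (fun a b hab => Subtype.ext (QuotientGroup.eq.2 (by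
                have := QuotientGroup.leftRel_apply.1 hab
                simpa [mul_assoc, Subgroup.mem_subgroupOf] using this))))
          ⟨?_, ?_⟩)).symm
        · intro a b
          induction a using QuotientGroup.induction_on with
          | H a =>
            induction b using QuotientGroup.induction_on with
            | H b =>
              intro h
              have := QuotientGroup.eq.1 (congrArg Subtype.val h)
              exact QuotientGroup.eq.2 (by simpa [Subgroup.mem_subgroupOf, mul_assoc] using this)
        · rintro ⟨x, hx⟩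
          induction x using QuotientGroup.induction_on with
          | H h =>
            have hs : g⁻¹ * h ∈ (P : Subgroup G) := QuotientGroup.eq.1 (by simpa [hπ] using hx.symm)
            exact ⟨((⟨g⁻¹ * h, hs⟩ : (P : Subgroup G)) : (P : Subgroup G) ⧸ Q.subgroupOf (P : Subgroup G)),
              Subtype.ext (by simp)⟩
      refine Eq.trans ?_ hcard
      rw [Nat.card_eq_fintype_card, Fintype.card_subtype]
      congr 1
      ext x
      simp only [Finset.mem_filter, Finset.mem_univ, true_and]
      exact ⟨fun h => h.2, fun h => ⟨hmem x h, h⟩⟩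
  have hcardF : F.card = 2 * (F.image π).card := by
    rw [Finset.card_eq_sum_card_image π F, Finset.sum_congr rfl hfib, Finset.sum_const, smul_eq_mul, mul_comm]
  have hm : ¬ 2 ∣ (P : Subgroup G).index := P.not_dvd_index
  have hcard : Fintype.card (G ⧸ Q) = 2 * (P : Subgroup G).index := by
    rw [← Nat.card_eq_fintype_card, ← index_eq_card, ← relIndex_mul_index hQP, hQi]
  have hodd : ¬ 2 ∣ (F.image π).card := by
    set τ := MulAction.toPermHom G (G ⧸ Q) u with hτ
    have hct : ∀ c ∈ τ.cycleType, c = 2 := by
      intro c hc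
      have h1 := Equiv.Perm.dvd_of_mem_cycleType hc
      have h2 := h1.trans (orderOf_map_dvd (MulAction.toPermHom G (G ⧸ Q)) u)
      rw [hu] at h2
      exact ((Nat.dvd_prime Nat.prime_two).mp h2).resolve_left (Equiv.Perm.one_lt_of_mem_cycleType hc).ne'
    have hrep := Multiset.eq_replicate_card.mpr hct
    set k := Multiset.card τ.cycleType with hk
    have h1 := Equiv.Perm.sum_cycleType τ
    rw [hrep, Multiset.sum_replicate, smul_eq_mul] at h1
    have hs : τ.support.card + F.card = Fintype.card (G ⧸ Q) := by
      have hsup : τ.support = Finset.univ.filter (fun q : G ⧸ Q => ¬ u • q = q) := by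
        ext q
        simp [hτ]
      rw [hsup, hF, ← Finset.card_univ, add_comm]
      exact Finset.card_filter_add_card_filter_not _
    have hev : Even k := by
      rw [Equiv.Perm.sign_of_cycleType, hrep, Multiset.sum_replicate, Multiset.card_replicate, smul_eq_mul,
        pow_add, pow_mul'] at hsign
      by_contra hodd
      rw [Nat.not_even_iff_odd] at hodd
      rw [hodd.neg_one_pow] at hsign
      norm_num at hsign
    obtain ⟨e, he⟩ := hev
    rintro ⟨d, hd⟩
    apply hm
    exact ⟨e + d, by omega⟩
  -- the group `R` fixes one of the cosets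
  let X : Set (G ⧸ (P : Subgroup G)) := ↑(F.image π)
  have hX : ∀ (r : R) (x : G ⧸ (P : Subgroup G)), x ∈ X → (r : G) • x ∈ X := by
    intro r x hx
    obtain ⟨y, hy, rfl⟩ := Finset.mem_image.1 (Finset.mem_coe.1 hx)
    refine Finset.mem_coe.2 (Finset.mem_image.2 ⟨(r : G) • y, ?_, ?_⟩)
    · refine Finset.mem_filter.2 ⟨Finset.mem_univ _, ?_⟩
      rw [← mul_smul, ← hRu r r.2, mul_smul, (Finset.mem_filter.1 hy).2]
    · induction y using QuotientGroup.induction_on with
      | H g => rfl
  let A : SubMulAction R (G ⧸ (P : Subgroup G)) :=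
    { carrier := X
      smul_mem' := fun r x hx => hX r x hx }
  obtain ⟨⟨q, hq⟩, hfix⟩ := hR.nonempty_fixed_point_of_prime_not_dvd_card A (by
    show ¬ 2 ∣ Nat.card X
    rw [Nat.card_coe_set_eq, Set.ncard_coe_finset]
    exact hodd)
  obtain ⟨y, hy, rfl⟩ := Finset.mem_image.1 (Finset.mem_coe.1 hq)
  induction y using QuotientGroup.induction_on with
  | H g =>
    refine ⟨g⁻¹, ?_, fun r hr => ?_⟩
    · have h := (Finset.mem_filter.1 hy).2
      rw [MulAction.Quotient.smul_mk, QuotientGroup.eq] at h
      simpa [smul_eq_mul, mul_assoc] using Q.inv_mem h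
    · have h1 : r • ((g : G) : G ⧸ (P : Subgroup G)) = (g : G) := congrArg Subtype.val (hfix ⟨r, hr⟩)
      rw [MulAction.Quotient.smul_mk, QuotientGroup.eq] at h1
      simpa [smul_eq_mul, mul_assoc] using (P : Subgroup G).inv_mem h1

/-- A simple group which is not abelian has no isolated involution. -/
theorem exists_conj_ne [IsSimpleGroup G] (hG : ¬ ∀ a b : G, a * b = b * a) (P : Sylow 2 G) {u : G}
    (hu : orderOf u = 2) (huP : u ∈ (P : Subgroup G)) :
    ∃ g : G, g * u * g⁻¹ ∈ (P : Subgroup G) ∧ g * u * g⁻¹ ≠ u := by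
  by_contra h
  push Not at h
  obtain ⟨N, hN, hodd, hc⟩ := Cfsg.Agent.S0215.result P u hu huP h
  rcases hN.eq_bot_or_eq_top with rfl | rfl
  · have hcen : u ∈ Subgroup.center G := Subgroup.mem_center_iff.2 fun g => by
      have h1 := Subgroup.mem_bot.1 (hc g)
      rw [mul_inv_eq_one, mul_inv_eq_iff_eq_mul] at h1
      exact h1.symm
    rcases (inferInstance : (Subgroup.center G).Normal).eq_bot_or_eq_top with hb | ht
    · rw [hb, Subgroup.mem_bot] at hcen
      rw [hcen, orderOf_one] at hu
      exact absurd hu (by omega)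
    · exact hG fun a b => (Subgroup.mem_center_iff.1 (ht ▸ Subgroup.mem_top b : b ∈ Subgroup.center G) a)
  · rw [Subgroup.card_top] at hodd
    exact Nat.not_even_iff_odd.2 hodd (even_iff_two_dvd.2 (hu ▸ orderOf_dvd_natCard u))

theorem no_index_two [IsSimpleGroup G] (hG : ¬ ∀ a b : G, a * b = b * a) (N : Subgroup G) (hN : N.Normal) :
    N.index ≠ 2 := by
  intro h
  rcases hN.eq_bot_or_eq_top with rfl | rfl
  · rw [Subgroup.index_bot] at h
    refine hG fun a b => ?_
    have : Fact (Nat.Prime 2) := ⟨Nat.prime_two⟩
    have := isCyclic_of_prime_card (α := G) h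
    letI := IsCyclic.commGroup (α := G)
    exact mul_comm a b
  · simp at h

end Cfsg.Agent.H48.GTwoFusion
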