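import Mathlib

/-!
# A 2-group of the form `(Z/4k × Z/4k) : (Z/2 × Z/2)`: an inversion and a swap
-/

set_option autoImplicit false

namespace Cfsg.Agent.H48.GTwoFusion

variable {G : Type*} [Group G]

/-- Generators of a subgroup of shape `(Z/4k × Z/4k) : ⟨t, r⟩`. -/
structure Data (S : Subgroup G) where
  k : ℕ
  k_pos : 1 ≤ k
  x : G
  y : G
  t : G
  r : G
  x_mem : x ∈ S
  y_mem : y ∈ S
  t_mem : t ∈ S
  r_mem : r ∈ S
  t_sq : t * t = 1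
  r_sq : r * r = 1
  t_r : t * r = r * t
  x_y : x * y = y * x
  t_x : t * x * t = x⁻¹
  t_y : t * y * t = y⁻¹
  r_x : r * x * r = y
  eq_one : ∀ i j : ℤ, x ^ i * y ^ j = 1 ↔ (4 * k : ℤ) ∣ i ∧ (4 * k : ℤ) ∣ j
  cover : ∀ g ∈ S, ∃ i j : ℤ, g = x ^ i * y ^ j ∨ g = x ^ i * y ^ j * t ∨ g = x ^ i * y ^ j * r ∨
    g = x ^ i * y ^ j * (t * r)

namespace Data

variable {S : Subgroup G} (D : Data S)

def w (i j : ℤ) : G := D.x ^ i * D.y ^ j

theorem w_def (i j : ℤ) : D.x ^ i * D.y ^ j = D.w i j := rfl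

theorem w_mem (i j : ℤ) : D.w i j ∈ S := S.mul_mem (zpow_mem D.x_mem i) (zpow_mem D.y_mem j)

theorem w_mul (a b c d : ℤ) : D.w a b * D.w c d = D.w (a + c) (b + d) := by
  have h : Commute (D.x ^ c) (D.y ^ b) := (show Commute D.x D.y from D.x_y).zpow_zpow c b
  unfold w
  rw [zpow_add, zpow_add]
  calc D.x ^ a * D.y ^ b * (D.x ^ c * D.y ^ d) = D.x ^ a * (D.y ^ b * D.x ^ c) * D.y ^ d := by group
    _ = D.x ^ a * (D.x ^ c * D.y ^ b) * D.y ^ d := by rw [h.eq]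
    _ = _ := by group

theorem w_zero : D.w 0 0 = 1 := by simp [w]

theorem w_inv (a b : ℤ) : (D.w a b)⁻¹ = D.w (-a) (-b) :=
  inv_eq_of_mul_eq_one_right (by rw [w_mul, add_neg_cancel, add_neg_cancel, w_zero])

theorem w_eq_one (i j : ℤ) : D.w i j = 1 ↔ (4 * D.k : ℤ) ∣ i ∧ (4 * D.k : ℤ) ∣ j := D.eq_one i j

theorem w_inj (a b c d : ℤ) : D.w a b = D.w c d ↔ (4 * D.k : ℤ) ∣ (a - c) ∧ (4 * D.k : ℤ) ∣ (b - d) := by
  rw [← mul_inv_eq_one, w_inv, w_mul, ← sub_eq_add_neg, ← sub_eq_add_neg, w_eq_one]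

theorem w_comm (a b c d : ℤ) : D.w a b * D.w c d = D.w c d * D.w a b := by
  rw [w_mul, w_mul, add_comm a c, add_comm b d]

theorem t_inv : D.t⁻¹ = D.t := inv_eq_of_mul_eq_one_right D.t_sq

theorem r_inv : D.r⁻¹ = D.r := inv_eq_of_mul_eq_one_right D.r_sq

theorem r_y : D.r * D.y * D.r = D.x := by
  have r' : ∀ g : G, D.r * (D.r * g) = g := fun g => by rw [← mul_assoc, D.r_sq, one_mul]
  rw [← D.r_x]
  simp only [mul_assoc]
  rw [r', D.r_sq, mul_one]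

theorem t_w (i j : ℤ) : D.t * D.w i j = D.w (-i) (-j) * D.t := by
  have h1 : D.t * D.x ^ i * D.t⁻¹ = D.x ^ (-i) := by
    rw [← conj_zpow, D.t_inv, D.t_x, inv_zpow, zpow_neg]
  have h2 : D.t * D.y ^ j * D.t⁻¹ = D.y ^ (-j) := by
    rw [← conj_zpow, D.t_inv, D.t_y, inv_zpow, zpow_neg]
  unfold w
  rw [← h1, ← h2]
  group

theorem r_w (i j : ℤ) : D.r * D.w i j = D.w j i * D.r := by
  have h1 : D.r * D.x ^ i * D.r⁻¹ = D.y ^ i := by rw [← conj_zpow, D.r_inv, D.r_x]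
  have h2 : D.r * D.y ^ j * D.r⁻¹ = D.x ^ j := by rw [← conj_zpow, D.r_inv, D.r_y]
  have h : Commute (D.x ^ j) (D.y ^ i) := (show Commute D.x D.y from D.x_y).zpow_zpow j i
  unfold w
  rw [h.eq, ← h1, ← h2]
  group

theorem tr_w (i j : ℤ) : D.t * D.r * D.w i j = D.w (-j) (-i) * (D.t * D.r) := by
  rw [mul_assoc D.t, D.r_w, ← mul_assoc, D.t_w, mul_assoc]

theorem tr_sq : D.t * D.r * (D.t * D.r) = 1 := by
  calc D.t * D.r * (D.t * D.r) = D.t * D.r * (D.r * D.t) := by rw [D.t_r]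
    _ = D.t * (D.r * D.r) * D.t := by group
    _ = 1 := by rw [D.r_sq, mul_one, D.t_sq]

/-- Membership in the abelian part. -/
def InT (g : G) : Prop := ∃ i j : ℤ, g = D.w i j

theorem inT_mul {g h : G} (hg : D.InT g) (hh : D.InT h) : D.InT (g * h) := by
  obtain ⟨a, b, rfl⟩ := hg
  obtain ⟨c, d, rfl⟩ := hh
  exact ⟨_, _, D.w_mul a b c d⟩

theorem not_inT_t : ¬ D.InT D.t := by
  rintro ⟨i, j, h⟩
  have h1 := D.t_w 1 0
  rw [h] at h1
  rw [w_mul, w_mul, w_inj] at h1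
  obtain ⟨⟨c, hc⟩, -⟩ := h1
  have := D.k_pos
  rcases le_or_gt c 0 with hc0 | hc0 <;> nlinarith

theorem not_inT_r : ¬ D.InT D.r := by
  rintro ⟨i, j, h⟩
  have h1 := D.r_w 1 0
  rw [h] at h1
  rw [w_mul, w_mul, w_inj] at h1
  obtain ⟨⟨c, hc⟩, -⟩ := h1
  have := D.k_pos
  rcases le_or_gt c 0 with hc0 | hc0 <;> nlinarith

theorem not_inT_tr : ¬ D.InT (D.t * D.r) := by
  rintro ⟨i, j, h⟩
  have h1 := D.tr_w 1 0
  rw [h] at h1
  rw [w_mul, w_mul, w_inj] at h1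
  obtain ⟨⟨c, hc⟩, -⟩ := h1
  have := D.k_pos
  rcases le_or_gt c 0 with hc0 | hc0 <;> nlinarith

/-- The extension of the abelian part by an involution normalising it. -/
def ext (v : G) (hv : v * v = 1) (hn : ∀ g, D.InT g → D.InT (v * g * v)) : Subgroup G where
  carrier := {g | D.InT g ∨ D.InT (g * v)}
  one_mem' := Or.inl ⟨0, 0, D.w_zero.symm⟩
  mul_mem' := by
    intro a b ha hb
    have hvv : ∀ g : G, v * (v * g) = g := fun g => by rw [← mul_assoc, hv, one_mul]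
    rcases ha with ha | ha <;> rcases hb with hb | hb
    · exact Or.inl (D.inT_mul ha hb)
    · refine Or.inr ?_; rw [mul_assoc]; exact D.inT_mul ha hb
    · refine Or.inr ?_
      have := D.inT_mul ha (hn _ hb)
      simpa [mul_assoc, hvv] using this
    · refine Or.inl ?_
      have := D.inT_mul ha (hn _ hb)
      simpa [mul_assoc, hvv, hv] using this
  inv_mem' := by
    intro a ha
    have hinv : ∀ g, D.InT g → D.InT g⁻¹ := by
      rintro g ⟨i, j, rfl⟩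
      exact ⟨_, _, D.w_inv i j⟩
    rcases ha with ha | ha
    · exact Or.inl (hinv _ ha)
    · refine Or.inr ?_
      have := hn _ (hinv _ ha)
      rw [mul_inv_rev, ← mul_assoc, mul_inv_cancel, one_mul] at this
      exact this

theorem mem_ext {v : G} {hv : v * v = 1} {hn : ∀ g, D.InT g → D.InT (v * g * v)} {g : G} :
    g ∈ D.ext v hv hn ↔ D.InT g ∨ D.InT (g * v) := Iff.rfl

theorem norm_t : ∀ g, D.InT g → D.InT (D.t * g * D.t) := by
  rintro g ⟨i, j, rfl⟩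
  exact ⟨-i, -j, by rw [D.t_w, mul_assoc, D.t_sq, mul_one]⟩

theorem norm_r : ∀ g, D.InT g → D.InT (D.r * g * D.r) := by
  rintro g ⟨i, j, rfl⟩
  exact ⟨j, i, by rw [D.r_w, mul_assoc, D.r_sq, mul_one]⟩

theorem norm_tr : ∀ g, D.InT g → D.InT (D.t * D.r * g * (D.t * D.r)) := by
  rintro g ⟨i, j, rfl⟩
  exact ⟨-j, -i, by rw [D.tr_w, mul_assoc, D.tr_sq, mul_one]⟩

/-- `T⟨t⟩`. -/
def Qt : Subgroup G := D.ext D.t D.t_sq D.norm_t
/-- `T⟨r⟩`. -/
def Qr : Subgroup G := D.ext D.r D.r_sq D.norm_r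
/-- `T⟨tr⟩`. -/
def Qtr : Subgroup G := D.ext (D.t * D.r) D.tr_sq D.norm_tr

theorem inT_mem {g : G} (h : D.InT g) : g ∈ S := by
  obtain ⟨i, j, rfl⟩ := h
  exact D.w_mem i j

theorem ext_le {v : G} {hv : v * v = 1} {hn : ∀ g, D.InT g → D.InT (v * g * v)} (hvS : v ∈ S) :
    D.ext v hv hn ≤ S := by
  rintro g (h | h)
  · exact D.inT_mem h
  · have := S.mul_mem (D.inT_mem h) hvS
    rwa [mul_assoc, hv, mul_one] at this

theorem relIndex_ext {v : G} {hv : v * v = 1} {hn : ∀ g, D.InT g → D.InT (v * g * v)} (a : G) (haS : a ∈ S)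
    (ha : a ∉ D.ext v hv hn)
    (hcov : ∀ g, g = 1 ∨ g = D.t ∨ g = D.r ∨ g = D.t * D.r → g ∈ D.ext v hv hn ∨ g * a ∈ D.ext v hv hn) :
    (D.ext v hv hn).relIndex S = 2 := by
  show ((D.ext v hv hn).subgroupOf S).index = 2
  refine Subgroup.index_eq_two_iff.2 ⟨⟨a, haS⟩, fun b => ?_⟩
  have hT : ∀ i j : ℤ, D.w i j ∈ D.ext v hv hn := fun i j => Or.inl ⟨i, j, rfl⟩
  have hor : (b : G) ∈ D.ext v hv hn ∨ (b : G) * a ∈ D.ext v hv hn := by
    obtain ⟨i, j, h⟩ := D.cover b b.2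
    simp only [w_def] at h
    have key : ∀ g, (g = 1 ∨ g = D.t ∨ g = D.r ∨ g = D.t * D.r) → (b : G) = D.w i j * g →
        (b : G) ∈ D.ext v hv hn ∨ (b : G) * a ∈ D.ext v hv hn := by
      intro g hg hb
      rw [hb, mul_assoc]
      exact (hcov g hg).imp (mul_mem (hT i j)) (mul_mem (hT i j))
    rcases h with h | h | h | h
    · exact key 1 (Or.inl rfl) (by rw [h, mul_one])
    · exact key _ (Or.inr (Or.inl rfl)) h
    · exact key _ (Or.inr (Or.inr (Or.inl rfl))) h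
    · exact key _ (Or.inr (Or.inr (Or.inr rfl))) h
  simp only [Subgroup.mem_subgroupOf, Subgroup.coe_mul]
  rcases hor with h | h
  · exact Or.inr ⟨h, fun h' => ha (by simpa using mul_mem (inv_mem h) h')⟩
  · exact Or.inl ⟨h, fun h' => ha (by simpa using mul_mem (inv_mem h') h)⟩

theorem Qt_le : D.Qt ≤ S := D.ext_le D.t_mem
theorem Qr_le : D.Qr ≤ S := D.ext_le D.r_mem
theorem Qtr_le : D.Qtr ≤ S := D.ext_le (S.mul_mem D.t_mem D.r_mem)

theorem inT_one : D.InT 1 := ⟨0, 0, D.w_zero.symm⟩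

theorem t_mem_Qt : D.t ∈ D.Qt := Or.inr (by rw [D.t_sq]; exact D.inT_one)
theorem r_mem_Qr : D.r ∈ D.Qr := Or.inr (by rw [D.r_sq]; exact D.inT_one)
theorem tr_mem_Qtr : D.t * D.r ∈ D.Qtr := Or.inr (by rw [D.tr_sq]; exact D.inT_one)

theorem r_notMem_Qt : D.r ∉ D.Qt := by
  rintro (h | h)
  · exact D.not_inT_r h
  · rw [← D.t_r] at h; exact D.not_inT_tr h

theorem t_notMem_Qr : D.t ∉ D.Qr := by
  rintro (h | h)
  · exact D.not_inT_t h
  · exact D.not_inT_tr h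

theorem t_notMem_Qtr : D.t ∉ D.Qtr := by
  rintro (h | h)
  · exact D.not_inT_t h
  · rw [← mul_assoc, D.t_sq, one_mul] at h; exact D.not_inT_r h

theorem relIndex_Qt : D.Qt.relIndex S = 2 := by
  refine D.relIndex_ext D.r D.r_mem D.r_notMem_Qt ?_
  rintro g (rfl | rfl | rfl | rfl)
  · exact Or.inl (one_mem _)
  · exact Or.inl D.t_mem_Qt
  · exact Or.inr (by rw [D.r_sq]; exact one_mem _)
  · exact Or.inr (by rw [mul_assoc, D.r_sq, mul_one]; exact D.t_mem_Qt)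

theorem relIndex_Qr : D.Qr.relIndex S = 2 := by
  refine D.relIndex_ext D.t D.t_mem D.t_notMem_Qr ?_
  rintro g (rfl | rfl | rfl | rfl)
  · exact Or.inl (one_mem _)
  · exact Or.inr (by rw [D.t_sq]; exact one_mem _)
  · exact Or.inl D.r_mem_Qr
  · exact Or.inr (by rw [D.t_r, mul_assoc, D.t_sq, mul_one]; exact D.r_mem_Qr)

theorem relIndex_Qtr : D.Qtr.relIndex S = 2 := by
  refine D.relIndex_ext D.t D.t_mem D.t_notMem_Qtr ?_
  rintro g (rfl | rfl | rfl | rfl)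
  · exact Or.inl (one_mem _)
  · exact Or.inr (by rw [D.t_sq]; exact one_mem _)
  · exact Or.inr (by rw [← D.t_r]; exact D.tr_mem_Qtr)
  · exact Or.inl D.tr_mem_Qtr

/-- The central involution. -/
def z : G := D.w (2 * D.k) (2 * D.k)
/-- The first non-central involution of the abelian part. -/
def u : G := D.w (2 * D.k) 0
/-- The second non-central involution of the abelian part. -/
def u' : G := D.w 0 (2 * D.k)

theorem z_sq : D.z * D.z = 1 := by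
  rw [z, w_mul, w_eq_one]; exact ⟨⟨1, by ring⟩, ⟨1, by ring⟩⟩

theorem z_ne_one : D.z ≠ 1 := by
  rw [z, Ne, w_eq_one]
  rintro ⟨⟨c, hc⟩, -⟩
  have := D.k_pos
  rcases le_or_gt c 0 with hc0 | hc0 <;> nlinarith

theorem u_ne_z : D.u ≠ D.z := by
  rw [u, z, Ne, w_inj]
  rintro ⟨-, c, hc⟩
  have := D.k_pos
  rcases le_or_gt 0 c with hc0 | hc0 <;> nlinarith

theorem r_u : D.r * D.u * D.r = D.u' := by
  rw [u, u', D.r_w, mul_assoc, D.r_sq, mul_one]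

theorem u_mul_u' : D.u * D.u' = D.z := by
  rw [u, u', z, w_mul, zero_add, add_zero]

theorem z_comm {g : G} (hg : g ∈ S) : g * D.z = D.z * g := by
  have hT : ∀ i j, D.w i j * D.z = D.z * D.w i j := fun i j => D.w_comm i j _ _
  have hneg : D.w (-(2 * D.k : ℤ)) (-(2 * D.k : ℤ)) = D.z := by
    rw [z, w_inj]; exact ⟨⟨-1, by ring⟩, ⟨-1, by ring⟩⟩
  have ht : D.t * D.z = D.z * D.t := by rw [z, D.t_w, hneg]; rfl
  have hr : D.r * D.z = D.z * D.r := by rw [z, D.r_w]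
  have htr : D.t * D.r * D.z = D.z * (D.t * D.r) := by
    rw [mul_assoc, hr, ← mul_assoc, ht, mul_assoc]
  obtain ⟨i, j, h⟩ := D.cover g hg
  simp only [w_def] at h
  rcases h with rfl | rfl | rfl | rfl
  · exact hT i j
  · rw [mul_assoc, ht, ← mul_assoc, hT, mul_assoc]
  · rw [mul_assoc, hr, ← mul_assoc, hT, mul_assoc]
  · rw [mul_assoc, htr, ← mul_assoc, hT, mul_assoc]

/-- The involutions of the abelian part. -/
theorem inT_invol {g : G} (hg : D.InT g) (h2 : g * g = 1) (h1 : g ≠ 1) : g = D.z ∨ g = D.u ∨ g = D.u' := by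
  obtain ⟨i, j, rfl⟩ := hg
  rw [w_mul, w_eq_one] at h2
  obtain ⟨⟨a, ha⟩, b, hb⟩ := h2
  have hi : i = 2 * D.k * a := by linarith
  have hj : j = 2 * D.k * b := by linarith
  subst hi hj
  rcases Int.even_or_odd' a with ⟨c, rfl | rfl⟩ <;> rcases Int.even_or_odd' b with ⟨d, rfl | rfl⟩
  · exact absurd ((D.w_eq_one _ _).2 ⟨⟨c, by ring⟩, ⟨d, by ring⟩⟩) h1
  · exact Or.inr (Or.inr ((D.w_inj _ _ _ _).2 ⟨⟨c, by ring⟩, ⟨d, by ring⟩⟩))
  · exact Or.inr (Or.inl ((D.w_inj _ _ _ _).2 ⟨⟨c, by ring⟩, ⟨d, by ring⟩⟩))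
  · exact Or.inl ((D.w_inj _ _ _ _).2 ⟨⟨c, by ring⟩, ⟨d, by ring⟩⟩)

theorem conj_wt (c d i j : ℤ) :
    D.w c d * (D.w i j * D.t) * (D.w c d)⁻¹ = D.w (i + 2 * c) (j + 2 * d) * D.t := by
  rw [w_inv, mul_assoc, mul_assoc (D.w i j), D.t_w, ← mul_assoc, ← mul_assoc, w_mul, w_mul]
  congr 2 <;> ring

theorem conj_wr (c d i j : ℤ) :
    D.w c d * (D.w i j * D.r) * (D.w c d)⁻¹ = D.w (i + c - d) (j + d - c) * D.r := by
  rw [w_inv, mul_assoc, mul_assoc (D.w i j), D.r_w, ← mul_assoc, ← mul_assoc, w_mul, w_mul]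
  congr 2 <;> ring

theorem conj_wtr (c d i j : ℤ) :
    D.w c d * (D.w i j * (D.t * D.r)) * (D.w c d)⁻¹ = D.w (i + c + d) (j + d + c) * (D.t * D.r) := by
  rw [w_inv, mul_assoc, mul_assoc (D.w i j), D.tr_w, ← mul_assoc, ← mul_assoc, w_mul, w_mul]
  congr 2 <;> ring

/-- The involutions outside the abelian part. -/
theorem invol_cases {g : G} (hg : g ∈ S) (h2 : g * g = 1) (hT : ¬ D.InT g) :
    ∃ s ∈ S, s * g * s⁻¹ = D.t ∨ s * g * s⁻¹ = D.w 1 1 * D.t ∨ s * g * s⁻¹ = D.r ∨ s * g * s⁻¹ = D.t * D.r ∨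
      s * g * s⁻¹ = D.w 1 0 * D.t := by
  obtain ⟨i, j, h⟩ := D.cover g hg
  simp only [w_def] at h
  rcases h with rfl | rfl | rfl | rfl
  · exact absurd ⟨i, j, rfl⟩ hT
  · rcases Int.even_or_odd' i with ⟨a, rfl | rfl⟩ <;> rcases Int.even_or_odd' j with ⟨b, rfl | rfl⟩
    · refine ⟨D.w (-a) (-b), D.w_mem _ _, Or.inl ?_⟩
      rw [conj_wt, show (2 * a + 2 * -a : ℤ) = 0 by ring, show (2 * b + 2 * -b : ℤ) = 0 by ring, w_zero, one_mul]
    · refine ⟨D.r * D.w (-a) (-b), S.mul_mem D.r_mem (D.w_mem _ _), Or.inr (Or.inr (Or.inr (Or.inr ?_)))⟩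
      rw [show ∀ p q v : G, p * q * v * (p * q)⁻¹ = p * (q * v * q⁻¹) * p⁻¹ from fun p q v => by group, conj_wt,
        show (2 * a + 2 * -a : ℤ) = 0 by ring, show (2 * b + 1 + 2 * -b : ℤ) = 1 by ring, D.r_inv,
        ← mul_assoc D.r, D.r_w, mul_assoc, mul_assoc]
      congr 1
      rw [← mul_assoc, ← D.t_r, mul_assoc, D.r_sq, mul_one]
    · refine ⟨D.w (-a) (-b), D.w_mem _ _, Or.inr (Or.inr (Or.inr (Or.inr ?_)))⟩
      rw [conj_wt, show (2 * a + 1 + 2 * -a : ℤ) = 1 by ring, show (2 * b + 2 * -b : ℤ) = 0 by ring]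
    · refine ⟨D.w (-a) (-b), D.w_mem _ _, Or.inr (Or.inl ?_)⟩
      rw [conj_wt, show (2 * a + 1 + 2 * -a : ℤ) = 1 by ring, show (2 * b + 1 + 2 * -b : ℤ) = 1 by ring]
  · rw [mul_assoc, ← mul_assoc D.r, D.r_w, mul_assoc (D.w j i), D.r_sq, mul_one, w_mul, w_eq_one] at h2
    obtain ⟨c, hc⟩ := h2.1
    refine ⟨D.w (-i) 0, D.w_mem _ _, Or.inr (Or.inr (Or.inl ?_))⟩
    rw [conj_wr, show (i + -i - 0 : ℤ) = 0 by ring, (D.w_eq_one _ _).2 ⟨dvd_zero _, ⟨c, by linarith⟩⟩, one_mul]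
  · rw [mul_assoc, ← mul_assoc (D.t * D.r), D.tr_w, mul_assoc (D.w (-j) (-i)), D.tr_sq, mul_one, w_mul,
      w_eq_one] at h2
    obtain ⟨c, hc⟩ := h2.2
    refine ⟨D.w (-i) 0, D.w_mem _ _, Or.inr (Or.inr (Or.inr (Or.inl ?_)))⟩
    rw [conj_wtr, show (i + -i + 0 : ℤ) = 0 by ring, (D.w_eq_one _ _).2 ⟨dvd_zero _, ⟨c, by linarith⟩⟩, one_mul]

end Data

end Cfsg.Agent.H48.GTwoFusion
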