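import Cfsg.Agent.H48.GTwoFusion.Data
import Cfsg.Agent.H48.GTwoFusion.Transfer

/-!
# Fusion of involutions for Sylow 2-subgroups of type `G₂(q)`, `q` odd
-/

set_option autoImplicit false

namespace Cfsg.Agent.H48.GTwoFusion

open Subgroup

variable {G : Type*} [Group G]

theorem orderOf_two_iff {g : G} : orderOf g = 2 ↔ g * g = 1 ∧ g ≠ 1 := by
  have : Fact (Nat.Prime 2) := ⟨Nat.prime_two⟩
  rw [orderOf_eq_prime_iff, pow_two]

theorem conj_invol {a b : G} (h : IsConj a b) (ha : a * a = 1) (ha1 : a ≠ 1) : b * b = 1 ∧ b ≠ 1 := by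
  obtain ⟨c, rfl⟩ := isConj_iff.1 h
  refine ⟨?_, fun e => ha1 (conj_eq_one_iff.1 e)⟩
  rw [show c * a * c⁻¹ * (c * a * c⁻¹) = c * (a * a) * c⁻¹ by group, ha, mul_one, mul_inv_cancel]

namespace Data

variable {S : Subgroup G} (D : Data S)

/-- The representatives of the cosets of the abelian part. -/
def IsRep (g : G) : Prop := g = 1 ∨ g = D.t ∨ g = D.r ∨ g = D.t * D.r

theorem cover_rep {b : G} (hb : b ∈ S) : ∃ v g, D.InT v ∧ D.IsRep g ∧ b = v * g := by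
  obtain ⟨i, j, h⟩ := D.cover b hb
  rcases h with h | h | h | h
  · exact ⟨_, 1, ⟨i, j, rfl⟩, Or.inl rfl, by rw [h, mul_one]; rfl⟩
  · exact ⟨_, _, ⟨i, j, rfl⟩, Or.inr (Or.inl rfl), h⟩
  · exact ⟨_, _, ⟨i, j, rfl⟩, Or.inr (Or.inr (Or.inl rfl)), h⟩
  · exact ⟨_, _, ⟨i, j, rfl⟩, Or.inr (Or.inr (Or.inr rfl)), h⟩

theorem rep_norm {g : G} (hg : D.IsRep g) {v : G} (hv : D.InT v) : D.InT (g * v * g) := by
  rcases hg with rfl | rfl | rfl | rfl
  · simpa using hv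
  · exact D.norm_t v hv
  · exact D.norm_r v hv
  · exact D.norm_tr v hv

theorem rep_sq {g : G} (hg : D.IsRep g) : g * g = 1 := by
  rcases hg with rfl | rfl | rfl | rfl
  · exact one_mul 1
  · exact D.t_sq
  · exact D.r_sq
  · exact D.tr_sq

theorem rep_comm {g h : G} (hg : D.IsRep g) (hh : D.IsRep h) : Commute g h := by
  have htr : Commute D.t D.r := D.t_r
  have h1 : Commute D.t (D.t * D.r) := (Commute.refl _).mul_right htr
  have h2 : Commute D.r (D.t * D.r) := htr.symm.mul_right (Commute.refl _)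
  rcases hg with rfl | rfl | rfl | rfl <;> rcases hh with rfl | rfl | rfl | rfl <;>
    first
      | exact Commute.one_left _
      | exact Commute.one_right _
      | exact Commute.refl _
      | exact htr
      | exact htr.symm
      | exact h1
      | exact h1.symm
      | exact h2
      | exact h2.symm

theorem inT_inv {g : G} (h : D.InT g) : D.InT g⁻¹ := by
  obtain ⟨i, j, rfl⟩ := h
  exact ⟨_, _, D.w_inv i j⟩

theorem sq_inT {b : G} (hb : b ∈ S) : D.InT (b * b) := by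
  obtain ⟨v, g, hv, hg, rfl⟩ := D.cover_rep hb
  have := D.inT_mul hv (D.rep_norm hg hv)
  simpa [mul_assoc] using this

theorem commutator_inT {a b : G} (ha : a ∈ S) (hb : b ∈ S) : D.InT (a * b * a⁻¹ * b⁻¹) := by
  obtain ⟨v, g, hv, hg, rfl⟩ := D.cover_rep ha
  obtain ⟨v', g', hv', hg', rfl⟩ := D.cover_rep hb
  have ig : g⁻¹ = g := inv_eq_of_mul_eq_one_right (D.rep_sq hg)
  have ig' : g'⁻¹ = g' := inv_eq_of_mul_eq_one_right (D.rep_sq hg')
  have key : v * g * (v' * g') * (v * g)⁻¹ * (v' * g')⁻¹ = v * (g * v' * g) * (g' * v⁻¹ * g') * v'⁻¹ := by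
    rw [mul_inv_rev, mul_inv_rev, ig, ig']
    calc v * g * (v' * g') * (g * v⁻¹) * (g' * v'⁻¹)
        = v * g * v' * (g' * g) * v⁻¹ * g' * v'⁻¹ := by group
      _ = _ := by rw [(D.rep_comm hg' hg).eq]; group
  rw [key]
  exact D.inT_mul (D.inT_mul (D.inT_mul hv (D.rep_norm hg hv')) (D.rep_norm hg' (D.inT_inv hv))) (D.inT_inv hv')

theorem Qt_cases {e : G} (he : e ∈ D.Qt) : D.InT e ∨ ∃ i j, e = D.w i j * D.t := by
  rcases he with h | ⟨i, j, h⟩
  · exact Or.inl h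
  · refine Or.inr ⟨i, j, ?_⟩
    rw [← h, mul_assoc, D.t_sq, mul_one]

theorem Qr_cases {e : G} (he : e ∈ D.Qr) : D.InT e ∨ ∃ i j, e = D.w i j * D.r := by
  rcases he with h | ⟨i, j, h⟩
  · exact Or.inl h
  · refine Or.inr ⟨i, j, ?_⟩
    rw [← h, mul_assoc, D.r_sq, mul_one]

/-- The mixed involution. -/
def m : G := D.w 1 0 * D.t

theorem m_sq : D.m * D.m = 1 := by
  rw [m, mul_assoc, ← mul_assoc D.t, D.t_w, mul_assoc, D.t_sq, mul_one, w_mul, add_neg_cancel, neg_zero, add_zero,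
    w_zero]

theorem m_mem : D.m ∈ S := S.mul_mem (D.w_mem _ _) D.t_mem

theorem not_inT_m : ¬ D.InT D.m := by
  intro h
  apply D.not_inT_t
  have := D.inT_mul (D.inT_inv (⟨1, 0, rfl⟩ : D.InT (D.w 1 0))) h
  rwa [m, inv_mul_cancel_left] at this

theorem t_comm_u : D.t * D.u = D.u * D.t := by
  rw [u, t_w]
  congr 1
  rw [w_inj]
  exact ⟨⟨-1, by ring⟩, ⟨0, by ring⟩⟩

theorem t_comm_u' : D.t * D.u' = D.u' * D.t := by
  rw [u', t_w]
  congr 1
  rw [w_inj]
  exact ⟨⟨0, by ring⟩, ⟨-1, by ring⟩⟩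

/-- An involution commuting with the mixed involution, outside the abelian part, is conjugate to it. -/
theorem comm_m {v : G} (hv : v ∈ S) (hT : ¬ D.InT v) (hc : v * D.m = D.m * v) : IsConj D.m v := by
  obtain ⟨i, j, h⟩ := D.cover v hv
  simp only [w_def] at h
  rcases h with rfl | rfl | rfl | rfl
  · exact absurd ⟨i, j, rfl⟩ hT
  · rw [m, mul_assoc, ← mul_assoc D.t, D.t_w, mul_assoc (D.w (-1) (-0)), D.t_sq, mul_one, w_mul,
      mul_assoc (D.w 1 0), ← mul_assoc D.t, D.t_w, mul_assoc (D.w (-i) (-j)), D.t_sq, mul_one, w_mul, w_inj] at hc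
    obtain ⟨⟨a, ha⟩, b, hb⟩ := hc
    refine isConj_iff.2 ⟨D.w (D.k * a) (D.k * b), ?_⟩
    rw [m, conj_wt]
    congr 1
    rw [w_inj]
    exact ⟨⟨0, by linarith⟩, ⟨0, by linarith⟩⟩
  · exfalso
    rw [m, mul_assoc, ← mul_assoc D.r, D.r_w, mul_assoc (D.w 0 1), ← mul_assoc (D.w i j), w_mul,
      mul_assoc (D.w 1 0), ← mul_assoc D.t, D.t_w, mul_assoc (D.w (-i) (-j)), ← mul_assoc (D.w 1 0), w_mul,
      ← D.t_r, mul_left_inj, w_inj] at hc
    obtain ⟨⟨a, ha⟩, -⟩ := hc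
    have h2 : (2 : ℤ) ∣ 4 * D.k * a := ⟨2 * D.k * a, by ring⟩
    omega
  · exfalso
    have e : D.t * D.r * D.t = D.r := by rw [D.t_r, mul_assoc, D.t_sq, mul_one]
    have e' : D.t * (D.t * D.r) = D.r := by rw [← mul_assoc, D.t_sq, one_mul]
    rw [m, mul_assoc, ← mul_assoc (D.t * D.r), D.tr_w, mul_assoc (D.w (-0) (-1)), e, ← mul_assoc (D.w i j),
      w_mul, mul_assoc (D.w 1 0), ← mul_assoc D.t, D.t_w, mul_assoc (D.w (-i) (-j)), e', ← mul_assoc (D.w 1 0),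
      w_mul, mul_left_inj, w_inj] at hc
    obtain ⟨⟨a, ha⟩, -⟩ := hc
    have h2 : (2 : ℤ) ∣ 4 * D.k * a := ⟨2 * D.k * a, by ring⟩
    omega

/-- The five representatives other than the mixed one have a centraliser whose derived group contains `z`. -/
theorem exists_commutator {s : G} (hs : s = D.t ∨ s = D.w 1 1 * D.t ∨ s = D.r ∨ s = D.t * D.r) :
    ∃ c ∈ S, ∃ d ∈ S, c * s = s * c ∧ d * s = s * d ∧ c * d * c⁻¹ * d⁻¹ = D.z := by
  have hu : D.u * D.r * D.u⁻¹ * D.r⁻¹ = D.z := by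
    rw [u, w_inv, mul_assoc (D.w _ 0), D.r_w, ← mul_assoc, w_mul, mul_assoc, mul_inv_cancel, mul_one, z, w_inj]
    exact ⟨⟨0, by ring⟩, ⟨-1, by ring⟩⟩
  have hw : ∀ p q : ℤ, D.w p q * D.t * (D.w p q)⁻¹ * D.t⁻¹ = D.w (2 * p) (2 * q) := by
    intro p q
    rw [w_inv, mul_assoc (D.w p q), D.t_w, ← mul_assoc, w_mul, mul_assoc, mul_inv_cancel, mul_one]
    congr 1 <;> ring
  rcases hs with rfl | rfl | rfl | rfl
  · exact ⟨D.u, D.w_mem _ _, D.r, D.r_mem, D.t_comm_u.symm, D.t_r.symm, hu⟩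
  · refine ⟨D.u, D.w_mem _ _, D.r, D.r_mem, ?_, ?_, hu⟩
    · rw [← mul_assoc, show D.u * D.w 1 1 = D.w 1 1 * D.u from D.w_comm _ _ _ _, mul_assoc, ← D.t_comm_u,
        ← mul_assoc]
    · rw [← mul_assoc, D.r_w, mul_assoc, ← D.t_r, ← mul_assoc]
  · refine ⟨D.w D.k D.k, D.w_mem _ _, D.t, D.t_mem, (D.r_w _ _).symm, D.t_r, ?_⟩
    rw [hw]; rfl
  · refine ⟨D.w D.k (-D.k), D.w_mem _ _, D.t, D.t_mem, ?_, ?_, ?_⟩
    · rw [D.tr_w, neg_neg]
    · rw [mul_assoc, ← D.t_r, ← mul_assoc]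
    · rw [hw, z, w_inj]
      exact ⟨⟨0, by ring⟩, ⟨-1, by ring⟩⟩

end Data

variable [Finite G]

/-- A conjugate in `P` of a central involution of `P` is brought back with its centraliser. -/
theorem exists_conj_centralizer (P : Sylow 2 G) {z s : G} (hzP : ∀ c ∈ (P : Subgroup G), c * z = z * c)
    (hconj : IsConj z s) :
    ∃ k : G, k * s * k⁻¹ = z ∧ ∀ c ∈ (P : Subgroup G), c * s = s * c → k * c * k⁻¹ ∈ (P : Subgroup G) := by
  classical
  have : Fact (Nat.Prime 2) := ⟨Nat.prime_two⟩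
  obtain ⟨h, hh⟩ := isConj_iff.1 hconj.symm
  set C := Subgroup.centralizer ({z} : Set G) with hC
  have hPC : (P : Subgroup G) ≤ C := fun c hc => Subgroup.mem_centralizer_singleton_iff.2 (hzP c hc)
  set R : Subgroup C :=
    (((P : Subgroup G) ⊓ Subgroup.centralizer ({s} : Set G)).map (MulAut.conj h).toMonoidHom).subgroupOf C with hR
  have hRp : IsPGroup 2 R := ((P.2.to_le inf_le_left).map _).comap_of_injective C.subtype C.subtype_injective
  obtain ⟨Q, hQ⟩ := hRp.exists_le_sylow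
  obtain ⟨c, hc⟩ := MulAction.exists_smul_eq C Q (P.subtype hPC)
  refine ⟨(c : G) * h, ?_, fun d hd hds => ?_⟩
  · rw [mul_inv_rev, show (c : G) * h * s * (h⁻¹ * (c : G)⁻¹) = c * (h * s * h⁻¹) * (c : G)⁻¹ by group, hh,
      mul_inv_eq_iff_eq_mul]
    exact Subgroup.mem_centralizer_singleton_iff.1 c.2
  · have hdz : h * d * h⁻¹ ∈ C := by
      rw [hC, Subgroup.mem_centralizer_singleton_iff, ← hh]
      calc h * d * h⁻¹ * (h * s * h⁻¹) = h * (d * s) * h⁻¹ := by group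
        _ = h * (s * d) * h⁻¹ := by rw [hds]
        _ = _ := by group
    have h1 : (⟨h * d * h⁻¹, hdz⟩ : C) ∈ (Q : Subgroup C) :=
      hQ ⟨d, ⟨hd, Subgroup.mem_centralizer_singleton_iff.2 hds⟩, rfl⟩
    have h2 : c * ⟨h * d * h⁻¹, hdz⟩ * c⁻¹ ∈ ((c • Q : Sylow 2 C) : Subgroup C) := by
      rw [Sylow.coe_subgroup_smul, Subgroup.mem_pointwise_smul_iff_inv_smul_mem]
      simpa [MulAut.smul_def, mul_assoc] using h1
    rw [hc] at h2
    have h3 : (c : G) * (h * d * h⁻¹) * (c : G)⁻¹ ∈ (P : Subgroup G) := h2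
    simpa [mul_assoc] using h3

variable [IsSimpleGroup G] (hG : ¬ ∀ a b : G, a * b = b * a) (P : Sylow 2 G) (D : Data (P : Subgroup G))

include hG in
theorem isConj_z_u : IsConj D.z D.u := by
  by_contra hcon
  have hcon' : ¬ IsConj D.z D.u' := fun h =>
    hcon (h.trans (isConj_iff.2 ⟨D.r, by rw [D.r_inv, ← D.r_u]; simp [mul_assoc, ← mul_assoc D.r D.r, D.r_sq]⟩))
  have hzP : ∀ c ∈ (P : Subgroup G), c * D.z = D.z * c := fun c hc => D.z_comm hc
  -- a conjugate of `z` in `P` is mixed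
  have hA : ∀ s ∈ (P : Subgroup G), IsConj D.z s → s ≠ D.z →
      ∃ q ∈ (P : Subgroup G), q * s * q⁻¹ = D.m := by
    intro s hs hzs hsz
    obtain ⟨hs2, hs1⟩ := conj_invol hzs D.z_sq D.z_ne_one
    by_cases hT : D.InT s
    · rcases D.inT_invol hT hs2 hs1 with h | h | h
      · exact absurd h hsz
      · exact absurd (h ▸ hzs) hcon
      · exact absurd (h ▸ hzs) hcon'
    obtain ⟨q, hq, hcases⟩ := D.invol_cases hs hs2 hT
    have hgood : ∀ s₀, (s₀ = D.t ∨ s₀ = D.w 1 1 * D.t ∨ s₀ = D.r ∨ s₀ = D.t * D.r) → q * s * q⁻¹ = s₀ → False := by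
      intro s₀ h0 h0s
      have hzs₀ : IsConj D.z s₀ := hzs.trans (isConj_iff.2 ⟨q, h0s⟩)
      obtain ⟨c, hc, d, hd, hcs, hds, hcd⟩ := D.exists_commutator h0
      obtain ⟨k, hk, hkC⟩ := exists_conj_centralizer P hzP hzs₀
      have hzT : D.InT (k * D.z * k⁻¹) := by
        have := D.commutator_inT (hkC c hc hcs) (hkC d hd hds)
        rw [← hcd]
        simpa [mul_assoc] using this
      have hzz : IsConj D.z (k * D.z * k⁻¹) := isConj_iff.2 ⟨k, rfl⟩
      obtain ⟨h2, h1⟩ := conj_invol hzz D.z_sq D.z_ne_one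
      rcases D.inT_invol hzT h2 h1 with h | h | h
      · have e : s₀ = D.z := by
          have := hk.trans h.symm
          exact mul_left_cancel (mul_right_cancel this)
        have hTs₀ : ¬ D.InT s₀ := by
          rcases h0 with rfl | rfl | rfl | rfl
          · exact D.not_inT_t
          · intro h'
            have := D.inT_mul (D.inT_inv (⟨1, 1, rfl⟩ : D.InT (D.w 1 1))) h'
            rw [inv_mul_cancel_left] at this
            exact D.not_inT_t this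
          · exact D.not_inT_r
          · exact D.not_inT_tr
        exact hTs₀ (e ▸ ⟨_, _, rfl⟩)
      · exact hcon (h ▸ hzz)
      · exact hcon' (h ▸ hzz)
    rcases hcases with h | h | h | h | h
    · exact (hgood _ (Or.inl rfl) h).elim
    · exact (hgood _ (Or.inr (Or.inl rfl)) h).elim
    · exact (hgood _ (Or.inr (Or.inr (Or.inl rfl))) h).elim
    · exact (hgood _ (Or.inr (Or.inr (Or.inr rfl))) h).elim
    · exact ⟨q, hq, h⟩
  obtain ⟨g, hgP, hgz⟩ := exists_conj_ne hG P (orderOf_two_iff.2 ⟨D.z_sq, D.z_ne_one⟩) (D.w_mem _ _)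
  obtain ⟨q, -, hq⟩ := hA _ hgP (isConj_iff.2 ⟨g, rfl⟩) hgz
  have hzm : IsConj D.z D.m := (isConj_iff.2 ⟨g, rfl⟩ : IsConj D.z _).trans (isConj_iff.2 ⟨q, hq⟩)
  obtain ⟨k, hk, hkC⟩ := exists_conj_centralizer P hzP hzm
  have hmz : D.m ≠ D.z := fun h => D.not_inT_m (h ▸ ⟨_, _, rfl⟩)
  have hz'P : k * D.z * k⁻¹ ∈ (P : Subgroup G) := hkC _ (D.w_mem _ _) (D.z_comm D.m_mem).symm
  obtain ⟨p, hp, hpz⟩ := hA _ hz'P (isConj_iff.2 ⟨k, rfl⟩)
    (fun h => hmz (mul_left_cancel (mul_right_cancel (hk.trans h.symm))))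
  have hbad : ∀ v ∈ (P : Subgroup G), v * D.m = D.m * v → ¬ IsConj D.z v → D.InT v := by
    intro v hv hvm hvz
    by_contra hT
    exact hvz (hzm.trans (D.comm_m hv hT hvm))
  have hv : ∀ a ∈ (P : Subgroup G), a * D.m = D.m * a → a * D.z = D.z * a → ¬ IsConj D.z a →
      D.InT (p * k * a * (p * k)⁻¹) := by
    intro a ha ham haz hna
    have hmem : p * k * a * (p * k)⁻¹ ∈ (P : Subgroup G) := by
      have h := mul_mem (mul_mem hp (hkC a ha ham)) (inv_mem hp)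
      simpa [mul_assoc] using h
    refine hbad _ hmem ?_ (fun h => hna (h.trans (isConj_iff.2 ⟨p * k, rfl⟩).symm))
    rw [← hpz]
    calc p * k * a * (p * k)⁻¹ * (p * (k * D.z * k⁻¹) * p⁻¹) = p * k * (a * D.z) * (p * k)⁻¹ := by group
      _ = p * k * (D.z * a) * (p * k)⁻¹ := by rw [haz]
      _ = _ := by group
  have hum : D.u * D.m = D.m * D.u := by
    rw [Data.m, ← mul_assoc, show D.u * D.w 1 0 = D.w 1 0 * D.u from D.w_comm _ _ _ _, mul_assoc, ← D.t_comm_u,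
      ← mul_assoc]
  have hu'm : D.u' * D.m = D.m * D.u' := by
    rw [Data.m, ← mul_assoc, show D.u' * D.w 1 0 = D.w 1 0 * D.u' from D.w_comm _ _ _ _, mul_assoc,
      ← D.t_comm_u', ← mul_assoc]
  have h := D.inT_mul (hv D.u (D.w_mem _ _) hum (D.w_comm _ _ _ _) hcon)
    (hv D.u' (D.w_mem _ _) hu'm (D.w_comm _ _ _ _) hcon')
  rw [show p * k * D.u * (p * k)⁻¹ * (p * k * D.u' * (p * k)⁻¹) = p * (k * (D.u * D.u') * k⁻¹) * p⁻¹ by group,
    D.u_mul_u', hpz] at h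
  exact D.not_inT_m h

include hG in
theorem inT_isConj_z {e : G} (he : D.InT e) (h2 : e * e = 1) (h1 : e ≠ 1) : IsConj e D.z := by
  rcases D.inT_invol he h2 h1 with rfl | rfl | rfl
  · exact IsConj.refl _
  · exact (isConj_z_u hG P D).symm
  · refine IsConj.trans ?_ (isConj_z_u hG P D).symm
    exact isConj_iff.2 ⟨D.r, by rw [D.r_inv, ← D.r_u]; simp [mul_assoc, ← mul_assoc D.r D.r, D.r_sq]⟩

include hG in
/-- Every involution is conjugate to `z` or to `r`. -/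
theorem isConj_z_or_r {e : G} (he : orderOf e = 2) : IsConj e D.z ∨ IsConj e D.r := by
  classical
  have : Fact (Nat.Prime 2) := ⟨Nat.prime_two⟩
  have hQ : ∀ e, e ∈ D.Qr → e * e = 1 → e ≠ 1 → IsConj e D.z ∨ IsConj e D.r := by
    intro e heQ h2 h1
    rcases D.Qr_cases heQ with hT | ⟨i, j, rfl⟩
    · exact Or.inl (inT_isConj_z hG P D hT h2 h1)
    · rw [mul_assoc, ← mul_assoc D.r, D.r_w, mul_assoc (D.w j i), D.r_sq, mul_one, Data.w_mul,
        Data.w_eq_one] at h2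
      obtain ⟨c, hc⟩ := h2.1
      refine Or.inr (isConj_iff.2 ⟨D.w (-i) 0, ?_⟩)
      rw [D.conj_wr, show (i + -i - 0 : ℤ) = 0 by ring, (D.w_eq_one _ _).2 ⟨dvd_zero _, ⟨c, by linarith⟩⟩, one_mul]
  obtain ⟨Q', hQ'⟩ := (IsPGroup.of_card (n := 1) (by rw [Nat.card_zpowers, he, pow_one]) :
    IsPGroup 2 (Subgroup.zpowers e)).exists_le_sylow
  obtain ⟨g, hg⟩ := MulAction.exists_smul_eq G Q' P
  set f := g * e * g⁻¹ with hf
  have hfP : f ∈ (P : Subgroup G) := by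
    rw [← hg, Sylow.coe_subgroup_smul, Subgroup.mem_pointwise_smul_iff_inv_smul_mem]
    simpa [hf, MulAut.smul_def, mul_assoc] using hQ' (Subgroup.mem_zpowers e)
  have hef : IsConj e f := isConj_iff.2 ⟨g, rfl⟩
  obtain ⟨he2, he1⟩ := orderOf_two_iff.1 he
  obtain ⟨hf2, hf1⟩ := conj_invol hef he2 he1
  suffices H : IsConj f D.z ∨ IsConj f D.r from H.imp hef.trans hef.trans
  by_cases hfQ : f ∈ D.Qr
  · exact hQ f hfQ hf2 hf1
  obtain ⟨h, hh, -⟩ := transfer_extremal (no_index_two hG) P D.Qr D.Qr_le D.relIndex_Qr f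
    (orderOf_two_iff.2 ⟨hf2, hf1⟩) ⊥ IsPGroup.of_bot (by simp)
  obtain ⟨h2, h1⟩ := conj_invol (isConj_iff.2 ⟨h, rfl⟩ : IsConj f _) hf2 hf1
  have hc : IsConj f (h * f * h⁻¹) := isConj_iff.2 ⟨h, rfl⟩
  exact (hQ _ hh h2 h1).imp hc.trans hc.trans

include hG in
/-- For `1 < k` the involution `r` is conjugate to `z`. -/
theorem isConj_r_z (hk : 1 < D.k) : IsConj D.r D.z := by
  classical
  have hr1 : D.r ≠ 1 := fun h => D.not_inT_r (h ▸ D.inT_one)
  obtain ⟨g, hg, hgR⟩ := transfer_extremal (no_index_two hG) P D.Qt D.Qt_le D.relIndex_Qt D.r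
    (orderOf_two_iff.2 ⟨D.r_sq, hr1⟩) (Subgroup.zpowers (D.w 1 1))
    (P.2.to_le (by rw [Subgroup.zpowers_le]; exact D.w_mem _ _))
    (fun c hc => by
      obtain ⟨i, rfl⟩ := Subgroup.mem_zpowers_iff.1 hc
      exact (Commute.zpow_left (show Commute (D.w 1 1) D.r from (D.r_w 1 1).symm) i).eq)
  have hconj : IsConj D.r (g * D.r * g⁻¹) := isConj_iff.2 ⟨g, rfl⟩
  obtain ⟨h2, h1⟩ := conj_invol hconj D.r_sq hr1
  rcases D.Qt_cases hg with hT | ⟨i, j, he⟩
  · exact hconj.trans (inT_isConj_z hG P D hT h2 h1)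
  exfalso
  set c := g * D.w 1 1 * g⁻¹ with hc
  have hcP : c ∈ (P : Subgroup G) := hgR _ (Subgroup.mem_zpowers _)
  obtain ⟨a, b, hab⟩ := D.sq_inT hcP
  have hce : c * (D.w i j * D.t) = D.w i j * D.t * c := by
    rw [← he, hc]
    calc g * D.w 1 1 * g⁻¹ * (g * D.r * g⁻¹) = g * (D.w 1 1 * D.r) * g⁻¹ := by group
      _ = g * (D.r * D.w 1 1) * g⁻¹ := by rw [D.r_w]
      _ = _ := by group
  have hcc : c * c * (D.w i j * D.t) = D.w i j * D.t * (c * c) := by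
    rw [mul_assoc, hce, ← mul_assoc, hce, mul_assoc]
  rw [hab, ← mul_assoc, Data.w_mul, mul_assoc (D.w i j), D.t_w, ← mul_assoc, Data.w_mul, mul_left_inj,
    Data.w_inj] at hcc
  have h4 : c * c * (c * c) = 1 := by
    rw [hab, Data.w_mul, Data.w_eq_one]
    exact ⟨by obtain ⟨⟨x, hx⟩, -⟩ := hcc; exact ⟨x, by linarith⟩,
      by obtain ⟨-, x, hx⟩ := hcc; exact ⟨x, by linarith⟩⟩
  have h44 : D.w 4 4 = 1 := by
    rw [hc, show g * D.w 1 1 * g⁻¹ * (g * D.w 1 1 * g⁻¹) * (g * D.w 1 1 * g⁻¹ * (g * D.w 1 1 * g⁻¹)) =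
      g * (D.w 1 1 * D.w 1 1 * (D.w 1 1 * D.w 1 1)) * g⁻¹ by group, conj_eq_one_iff, Data.w_mul, Data.w_mul] at h4
    norm_num at h4
    exact h4
  obtain ⟨⟨x, hx⟩, -⟩ := (D.w_eq_one 4 4).1 h44
  have : (2 : ℤ) ≤ D.k := by exact_mod_cast hk
  rcases le_or_gt x 0 with hx0 | hx0 <;> nlinarith

omit [IsSimpleGroup G] in
theorem card_of_k_one (hk : D.k = 1) : Nat.card (P : Subgroup G) = 64 := by
  classical
  let rep : Fin 4 → G := ![1, D.t, D.r, D.t * D.r]
  have hrep : ∀ a, D.IsRep (rep a) := by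
    intro a
    fin_cases a <;> simp [rep, Data.IsRep]
  let f : Fin 4 × Fin 4 × Fin 4 → (P : Subgroup G) := fun a => ⟨D.w (a.1.1 : ℤ) (a.2.1.1 : ℤ) * rep a.2.2, by
    refine mul_mem (D.w_mem _ _) ?_
    rcases hrep a.2.2 with h | h | h | h <;> rw [h]
    exacts [one_mem _, D.t_mem, D.r_mem, mul_mem D.t_mem D.r_mem]⟩
  have hcard := Nat.card_congr (Equiv.ofBijective f ⟨?_, ?_⟩)
  · simpa using hcard.symm
  · rintro ⟨i, j, a⟩ ⟨i', j', a'⟩ h
    have h' : D.w (i.1 : ℤ) (j.1 : ℤ) * rep a = D.w (i'.1 : ℤ) (j'.1 : ℤ) * rep a' := congrArg Subtype.val h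
    have hdiff : D.InT (rep a * rep a') := by
      have e : rep a * rep a' = (D.w (i.1 : ℤ) (j.1 : ℤ))⁻¹ * D.w (i'.1 : ℤ) (j'.1 : ℤ) := by
        rw [eq_inv_mul_iff_mul_eq, ← mul_assoc, h', mul_assoc, D.rep_sq (hrep a'), mul_one]
      rw [e]
      exact D.inT_mul (D.inT_inv ⟨_, _, rfl⟩) ⟨_, _, rfl⟩
    have ha : a = a' := by
      by_contra hne
      have h1 := D.not_inT_t
      have h2 := D.not_inT_r
      have h3 := D.not_inT_tr
      have e1 : D.t * (D.t * D.r) = D.r := by rw [← mul_assoc, D.t_sq, one_mul]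
      have e2 : D.r * (D.t * D.r) = D.t := by rw [D.t_r, ← mul_assoc, D.r_sq, one_mul]
      have e3 : D.t * D.r * D.t = D.r := by rw [D.t_r, mul_assoc, D.t_sq, mul_one]
      have e4 : D.t * D.r * D.r = D.t := by rw [mul_assoc, D.r_sq, mul_one]
      fin_cases a <;> fin_cases a' <;> simp [rep] at hdiff hne <;>
        first
          | exact h1 hdiff
          | exact h2 hdiff
          | exact h3 hdiff
          | exact h3 (D.t_r ▸ hdiff)
          | exact h1 (e2 ▸ hdiff)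
          | exact h2 (e1 ▸ hdiff)
          | exact h2 (e3 ▸ hdiff)
          | exact h1 (e4 ▸ hdiff)
    subst ha
    rw [mul_left_inj, Data.w_inj, hk] at h'
    obtain ⟨⟨p, hp⟩, q, hq⟩ := h'
    have := i.2
    have := i'.2
    have := j.2
    have := j'.2
    simp only [Nat.cast_one, mul_one] at hp hq
    obtain rfl : i = i' := Fin.ext (by omega)
    obtain rfl : j = j' := Fin.ext (by omega)
    rfl
  · rintro ⟨b, hb⟩
    obtain ⟨v, g, ⟨i, j, rfl⟩, hg, rfl⟩ := D.cover_rep hb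
    obtain ⟨a, ha⟩ : ∃ a, rep a = g := by
      rcases hg with rfl | rfl | rfl | rfl
      exacts [⟨0, rfl⟩, ⟨1, rfl⟩, ⟨2, rfl⟩, ⟨3, rfl⟩]
    refine ⟨(⟨(i % 4).toNat, by omega⟩, ⟨(j % 4).toNat, by omega⟩, a), Subtype.ext ?_⟩
    show D.w _ _ * rep a = _
    rw [ha, mul_left_inj, Data.w_inj, hk]
    simp only [Nat.cast_one, mul_one]
    constructor <;> omega

include hG D in
/-- The involutions of a simple group with a Sylow 2-subgroup of type `G₂(q)`. -/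
theorem involution_classes :
    (∀ x y : G, orderOf x = 2 → orderOf y = 2 → IsConj x y) ∨
      (Nat.card (P : Subgroup G) = 64 ∧ ∃ x y : G, orderOf x = 2 ∧ orderOf y = 2 ∧ ¬ IsConj x y ∧
        ∀ z : G, orderOf z = 2 → IsConj z x ∨ IsConj z y) := by
  by_cases hrz : IsConj D.r D.z
  · left
    intro x y hx hy
    have h : ∀ e : G, orderOf e = 2 → IsConj e D.z := fun e he =>
      (isConj_z_or_r hG P D he).elim id (fun h => h.trans hrz)
    exact (h x hx).trans (h y hy).symm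
  · right
    refine ⟨card_of_k_one P D ?_, D.z, D.r, orderOf_two_iff.2 ⟨D.z_sq, D.z_ne_one⟩,
      orderOf_two_iff.2 ⟨D.r_sq, fun h => D.not_inT_r (h ▸ D.inT_one)⟩, fun h => hrz h.symm, fun e he => isConj_z_or_r hG P D he⟩
    rcases Nat.lt_or_ge 1 D.k with h | h
    · exact absurd (isConj_r_z hG P D h) hrz
    · exact le_antisymm h D.k_pos

end Cfsg.Agent.H48.GTwoFusion
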