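import Cfsg.Agent.H48.GTwoFusion.Fusion
import Cfsg.Agent.H87.OctSylow

/-!
# The Sylow 2-subgroup of `G₂(q)`, `q` odd, in generators
-/

set_option autoImplicit false

namespace Cfsg.Agent.H48.GTwoFusion

open Matrix (GeneralLinearGroup)
open Cfsg.Agent.H87.Oct
open scoped MatrixGroups
open Cfsg.Agent.H52.TwoBase (M R J Ct C2 base mem_C2 mem_Ct M_mul M_inj det_M M_scalar coe_J det_J det_R R_sq
  R_inv R_M R_conj_coe R_conj_mem J_mem negOne_mem C2_le R_mem Ct_comm two_ne_zero_of_odd)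

/-- Transport of the generators along an isomorphism. -/
def Data.ofEquiv {G H : Type*} [Group G] [Group H] {S₀ : Subgroup H} (D : Data S₀) {S : Subgroup G}
    (e : S₀ ≃* S) : Data S where
  k := D.k
  k_pos := D.k_pos
  x := e ⟨D.x, D.x_mem⟩
  y := e ⟨D.y, D.y_mem⟩
  t := e ⟨D.t, D.t_mem⟩
  r := e ⟨D.r, D.r_mem⟩
  x_mem := (e _).2
  y_mem := (e _).2
  t_mem := (e _).2
  r_mem := (e _).2
  t_sq := by
    rw [← Subgroup.coe_mul, ← map_mul, show (⟨D.t, D.t_mem⟩ : S₀) * ⟨D.t, D.t_mem⟩ = 1 from Subtype.ext D.t_sq,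
      map_one, OneMemClass.coe_one]
  r_sq := by
    rw [← Subgroup.coe_mul, ← map_mul, show (⟨D.r, D.r_mem⟩ : S₀) * ⟨D.r, D.r_mem⟩ = 1 from Subtype.ext D.r_sq,
      map_one, OneMemClass.coe_one]
  t_r := by
    rw [← Subgroup.coe_mul, ← Subgroup.coe_mul, ← map_mul, ← map_mul]
    exact congrArg (fun g : S₀ => (e g : G)) (Subtype.ext D.t_r)
  x_y := by
    rw [← Subgroup.coe_mul, ← Subgroup.coe_mul, ← map_mul, ← map_mul]
    exact congrArg (fun g : S₀ => (e g : G)) (Subtype.ext D.x_y)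
  t_x := by
    rw [← Subgroup.coe_mul, ← Subgroup.coe_mul, ← map_mul, ← map_mul, ← Subgroup.coe_inv, ← map_inv]
    exact congrArg (fun g : S₀ => (e g : G)) (Subtype.ext D.t_x)
  t_y := by
    rw [← Subgroup.coe_mul, ← Subgroup.coe_mul, ← map_mul, ← map_mul, ← Subgroup.coe_inv, ← map_inv]
    exact congrArg (fun g : S₀ => (e g : G)) (Subtype.ext D.t_y)
  r_x := by
    rw [← Subgroup.coe_mul, ← Subgroup.coe_mul, ← map_mul, ← map_mul]
    exact congrArg (fun g : S₀ => (e g : G)) (Subtype.ext D.r_x)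
  eq_one i j := by
    rw [← D.eq_one i j, ← Subgroup.coe_zpow, ← Subgroup.coe_zpow, ← Subgroup.coe_mul, ← map_zpow, ← map_zpow,
      ← map_mul, OneMemClass.coe_eq_one, EmbeddingLike.map_eq_one_iff, Subtype.ext_iff]
    simp only [Subgroup.coe_mul, Subgroup.coe_zpow, OneMemClass.coe_one]
  cover g hg := by
    obtain ⟨i, j, h⟩ := D.cover _ (e.symm ⟨g, hg⟩).2
    refine ⟨i, j, ?_⟩
    have key : ∀ v : S₀, ((e.symm ⟨g, hg⟩ : S₀) : H) = v → g = e v := by
      intro v hv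
      rw [← Subtype.ext hv, MulEquiv.apply_symm_apply]
    rcases h with h | h | h | h
    · left
      rw [key (⟨D.x, D.x_mem⟩ ^ i * ⟨D.y, D.y_mem⟩ ^ j) (by simpa using h)]
      simp
    · right; left
      rw [key (⟨D.x, D.x_mem⟩ ^ i * ⟨D.y, D.y_mem⟩ ^ j * ⟨D.t, D.t_mem⟩) (by simpa using h)]
      simp
    · right; right; left
      rw [key (⟨D.x, D.x_mem⟩ ^ i * ⟨D.y, D.y_mem⟩ ^ j * ⟨D.r, D.r_mem⟩) (by simpa using h)]
      simp
    · right; right; right
      rw [key (⟨D.x, D.x_mem⟩ ^ i * ⟨D.y, D.y_mem⟩ ^ j * (⟨D.t, D.t_mem⟩ * ⟨D.r, D.r_mem⟩)) (by simpa using h)]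
      simp only [map_mul, map_zpow, Subgroup.coe_mul, Subgroup.coe_zpow]

variable {F : Type*} [Field F]

/-- Conjugation by the reflection. -/
def bar : GL (Fin 2) F →* GL (Fin 2) F where
  toFun g := R * g * R
  map_one' := by rw [mul_one, R_sq]
  map_mul' a b := by
    rw [show R * a * R * (R * b * R) = R * a * (R * R) * b * R by simp [mul_assoc], R_sq, mul_one]
    simp [mul_assoc]

theorem bar_apply (g : GL (Fin 2) F) : bar g = R * g * R := rfl

theorem R_mul (g : GL (Fin 2) F) : R * g = bar g * R := by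
  rw [bar_apply, mul_assoc, R_sq, mul_one]

theorem bar_bar (g : GL (Fin 2) F) : bar (bar g) = g := by
  rw [bar_apply, bar_apply, show R * (R * g * R) * R = R * R * g * (R * R) by simp [mul_assoc], R_sq, one_mul,
    mul_one]

theorem bar_mem {g : GL (Fin 2) F} (hg : g ∈ C2 F) : bar g ∈ C2 F := R_conj_mem hg

theorem C2_comm {a b : GL (Fin 2) F} (ha : a ∈ C2 F) (hb : b ∈ C2 F) : a * b = b * a := Ct_comm ha.1 hb.1

theorem scalar_of_bar (h2 : (2 : F) ≠ 0) {g : GL (Fin 2) F} (hg : g ∈ Ct F) (h : bar g = g) :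
    ∃ l : F, (g : Matrix (Fin 2) (Fin 2) F) = l • 1 := by
  obtain ⟨x, y, hxy⟩ := mem_Ct.1 hg
  have h1 := congrArg (fun u : GL (Fin 2) F => (u : Matrix (Fin 2) (Fin 2) F)) h
  simp only [bar_apply] at h1
  rw [R_conj_coe hxy, hxy, M_inj] at h1
  have hy : y = 0 := by
    have : (2 : F) * y = 0 := by linear_combination -h1.2
    exact (mul_eq_zero.1 this).resolve_left h2
  exact ⟨x, by rw [hxy, hy, M_scalar]⟩

theorem bar_of_scalar {g : GL (Fin 2) F} {l : F} (h : (g : Matrix (Fin 2) (Fin 2) F) = l • 1) : bar g = g := by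
  apply Units.ext
  rw [bar_apply, Units.val_mul, Units.val_mul, h, mul_smul_comm, smul_mul_assoc, mul_one, ← Units.val_mul, R_sq,
    Units.val_one]

theorem mul_bar {g : GL (Fin 2) F} (hg : g ∈ Ct F) :
    ((g * bar g : GL (Fin 2) F) : Matrix (Fin 2) (Fin 2) F) = (GeneralLinearGroup.det g : F) • 1 := by
  obtain ⟨x, y, hxy⟩ := mem_Ct.1 hg
  rw [Units.val_mul, bar_apply, R_conj_coe hxy, GeneralLinearGroup.val_det_apply, hxy, det_M, M_mul, ← M_scalar,
    M_inj]
  constructor <;> ring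

theorem det_bar (g : GL (Fin 2) F) : GeneralLinearGroup.det (bar g) = GeneralLinearGroup.det g := by
  rw [bar_apply, map_mul, map_mul, det_R]
  simp

variable [Fintype F]

/-- An element of `C2` of given norm-one quotient. -/
theorem exists_quot (h2 : (2 : F) ≠ 0) {u : GL (Fin 2) F} (hu : u ∈ C2 F) (hdet : GeneralLinearGroup.det u = 1) :
    ∃ a ∈ C2 F, bar a = u * a := by
  classical
  obtain ⟨x, y, hxy⟩ := mem_Ct.1 hu.1
  have hn : x ^ 2 + y ^ 2 = 1 := by
    have := congrArg Units.val hdet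
    rwa [GeneralLinearGroup.val_det_apply, hxy, det_M] at this
  obtain ⟨b, hb, hbu⟩ : ∃ b ∈ Ct F, bar b = u * b := by
    by_cases hx : x = -1
    · have hy : y = 0 := by rw [hx] at hn; exact pow_eq_zero_iff two_ne_zero |>.1 (by linear_combination hn)
      refine ⟨J, J_mem.1, Units.ext ?_⟩
      rw [bar_apply, R_conj_coe (coe_J), Units.val_mul, hxy, coe_J, M_mul, M_inj, hx, hy]
      constructor <;> ring
    · have hne : (1 + x) ^ 2 + y ^ 2 ≠ 0 := by
        intro h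
        apply hx
        have : (2 : F) * (x + 1) = 0 := by linear_combination h - hn
        exact eq_neg_of_add_eq_zero_left ((mul_eq_zero.1 this).resolve_left h2)
      let b : GL (Fin 2) F := GeneralLinearGroup.mkOfDetNeZero (M (1 + x) (-y))
        (by rw [det_M, neg_sq]; exact hne)
      have hbc : ((b : GL (Fin 2) F) : Matrix (Fin 2) (Fin 2) F) = M (1 + x) (-y) := rfl
      refine ⟨b, mem_Ct.2 ⟨_, _, hbc⟩, Units.ext ?_⟩
      rw [bar_apply, R_conj_coe hbc, Units.val_mul, hxy, hbc, M_mul, M_inj]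
      constructor
      · linear_combination -hn
      · ring
  obtain ⟨e, m, hm, hem⟩ := Nat.exists_eq_pow_mul_and_not_dvd (isOfFinOrder_of_finite b).orderOf_pos.ne' 2 (by decide)
  obtain ⟨j, hj⟩ := hu.2
  have hco : m.Coprime (orderOf u) := by
    obtain ⟨i, -, hi⟩ := (Nat.dvd_prime_pow Nat.prime_two).1 (orderOf_dvd_of_pow_eq_one hj)
    rw [hi]
    exact (Nat.Coprime.pow_left i ((Nat.prime_two.coprime_iff_not_dvd).2 hm)).symm
  obtain ⟨l, hl⟩ := exists_pow_eq_self_of_coprime hco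
  refine ⟨(b ^ m) ^ l, ⟨pow_mem (pow_mem hb m) l, e, ?_⟩, ?_⟩
  · rw [← pow_mul, ← pow_mul, show m * (l * 2 ^ e) = orderOf b * l by rw [hem]; ring, pow_mul, pow_orderOf_eq_one,
      one_pow]
  · have hc : Commute u b := Ct_comm hu.1 hb
    rw [map_pow, map_pow, hbu, hc.mul_pow, (hc.pow_pow m m).mul_pow, hl]

omit [Fintype F] in
/-- The norm-one part is cyclic. -/
theorem isCyclic_normOne [Finite F] (h2 : (2 : F) ≠ 0) : IsCyclic ↥(C2 F ⊓ (GeneralLinearGroup.det : GL (Fin 2) F →* Fˣ).ker) := by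
  obtain ⟨i, hi⟩ := IsAlgClosed.exists_pow_nat_eq (-1 : AlgebraicClosure F) (n := 2) (by norm_num)
  let ι := algebraMap F (AlgebraicClosure F)
  let f : ↥(C2 F ⊓ (GeneralLinearGroup.det : GL (Fin 2) F →* Fˣ).ker) →* AlgebraicClosure F :=
    { toFun := fun g => ι (((g : GL (Fin 2) F) : Matrix (Fin 2) (Fin 2) F) 0 0) +
        i * ι (((g : GL (Fin 2) F) : Matrix (Fin 2) (Fin 2) F) 1 0)
      map_one' := by simp
      map_mul' := fun a b => by
        obtain ⟨x, y, h⟩ := mem_Ct.1 a.2.1.1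
        obtain ⟨z, w, h'⟩ := mem_Ct.1 b.2.1.1
        simp only [Subgroup.coe_mul, Units.val_mul, h, h', M_mul]
        simp only [H52.TwoBase.M, Matrix.cons_val_zero, Matrix.cons_val_one, Matrix.of_apply,
          Matrix.cons_val', Matrix.cons_val_fin_one, map_add, map_sub, map_mul]
        linear_combination -(ι y) * (ι w) * hi }
  refine isCyclic_of_injective_ringHom f ((injective_iff_map_eq_one f).2 fun g hg => ?_)
  obtain ⟨x, y, h⟩ := mem_Ct.1 g.2.1.1
  have hn : x ^ 2 + y ^ 2 = 1 := by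
    have := congrArg Units.val (MonoidHom.mem_ker.1 g.2.2)
    rwa [GeneralLinearGroup.val_det_apply, h, det_M] at this
  have hg' : ι x + i * ι y = 1 := by
    rw [← hg]
    show _ = ι _ + i * ι _
    rw [h]
    simp [H52.TwoBase.M]
  have hι : ι x ^ 2 + ι y ^ 2 = 1 := by rw [← map_pow, ← map_pow, ← map_add, hn, map_one]
  have h' : ι x - i * ι y = 1 := by
    linear_combination hι - (ι y) ^ 2 * hi - (ι x - i * ι y) * hg'
  have h2' : (2 : AlgebraicClosure F) ≠ 0 := fun e => h2 (ι.injective (by rw [map_ofNat, e, map_zero]))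
  have hy : ι y = 0 := by
    have : i ≠ 0 := fun e => by rw [e] at hi; norm_num at hi
    have h3 : (2 : AlgebraicClosure F) * (i * ι y) = 0 := by linear_combination hg' - h'
    simpa [h2', this] using h3
  have hx : ι x = 1 := by rw [hy, mul_zero, add_zero] at hg'; exact hg'
  refine Subtype.ext (Units.ext ?_)
  rw [h, (ι.injective (by rw [hy, map_zero]) : y = 0), (ι.injective (by rw [hx, map_one]) : x = 1), M_scalar]
  simp

theorem exists_norm_neg_one : ∃ c ∈ C2 F, GeneralLinearGroup.det c = -1 := by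
  classical
  have : NeZero (ringChar F) := ⟨CharP.ringChar_ne_zero_of_finite F⟩
  obtain ⟨x, y, hxy⟩ := CharP.sq_add_sq F (ringChar F) (-1)
  let b : GL (Fin 2) F := GeneralLinearGroup.mkOfDetNeZero (M (x : F) (y : F))
    (by rw [det_M, hxy]; simp)
  have hbc : ((b : GL (Fin 2) F) : Matrix (Fin 2) (Fin 2) F) = M (x : F) (y : F) := rfl
  obtain ⟨e, m, hm, hem⟩ := Nat.exists_eq_pow_mul_and_not_dvd (isOfFinOrder_of_finite b).orderOf_pos.ne' 2 (by decide)
  refine ⟨b ^ m, ⟨pow_mem (mem_Ct.2 ⟨_, _, hbc⟩) m, e, ?_⟩, ?_⟩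
  · rw [← pow_mul, mul_comm, ← hem, pow_orderOf_eq_one]
  · have hdb : GeneralLinearGroup.det b = -1 := Units.ext (by
      rw [GeneralLinearGroup.val_det_apply, hbc, det_M, hxy]; simp)
    rw [map_pow, hdb, Odd.neg_one_pow (Nat.odd_iff.2 (Nat.two_dvd_ne_zero.1 hm))]

omit [Fintype F] in
theorem phiG_eq {p q : Delta F} (l : F) (h1 : (p.1.1 : Matrix (Fin 2) (Fin 2) F) = l • (q.1.1 : Matrix (Fin 2) (Fin 2) F))
    (h2 : (p.1.2 : Matrix (Fin 2) (Fin 2) F) = l • (q.1.2 : Matrix (Fin 2) (Fin 2) F)) : phiG p = phiG q := by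
  rw [← mul_inv_eq_one, ← map_inv, ← map_mul, phiG_eq_one]
  refine ⟨l, ?_, ?_⟩
  · simp only [Subgroup.coe_mul, Subgroup.coe_inv, Prod.fst_mul, Prod.fst_inv, Units.val_mul]
    rw [h1, smul_mul_assoc, ← Units.val_mul, mul_inv_cancel, Units.val_one]
  · simp only [Subgroup.coe_mul, Subgroup.coe_inv, Prod.snd_mul, Prod.snd_inv, Units.val_mul]
    rw [h2, smul_mul_assoc, ← Units.val_mul, mul_inv_cancel, Units.val_one]

/-- The generators inside the image of the pairs from `base × base`. -/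
theorem exists_data_image (h2 : (2 : F) ≠ 0) (P : Subgroup (Cfsg.Lie.G2 F))
    (memP : ∀ v, v ∈ P ↔ ∃ p : Delta F, p.1.1 ∈ base F ∧ p.1.2 ∈ base F ∧ phiG p = v) :
    Nonempty (Data P) := by
  classical
  have := isCyclic_normOne (F := F) h2
  obtain ⟨⟨g, hg⟩, hgen⟩ := IsCyclic.exists_generator (α := ↥(C2 F ⊓ (GeneralLinearGroup.det : GL (Fin 2) F →* Fˣ).ker))
  have hgC : g ∈ C2 F := hg.1
  obtain ⟨a, ha, hbar⟩ := exists_quot h2 hgC (MonoidHom.mem_ker.1 hg.2)
  have hpow : ∀ v ∈ C2 F, GeneralLinearGroup.det v = 1 → ∃ i : ℤ, v = g ^ i := fun v hv hd => by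
    obtain ⟨i, hi⟩ := Subgroup.mem_zpowers_iff.1 (hgen ⟨v, hv, MonoidHom.mem_ker.2 hd⟩)
    exact ⟨i, (congrArg Subtype.val hi).symm.trans rfl⟩
  obtain ⟨k, hk⟩ : 4 ∣ orderOf g := by
    obtain ⟨i, hi⟩ := hpow J J_mem det_J
    have hJ : orderOf (J : GL (Fin 2) F) = 4 := by
      have h1 : (J : GL (Fin 2) F) ^ 2 ≠ 1 := fun h => by
        have := congrArg (fun u : GL (Fin 2) F => (u : Matrix (Fin 2) (Fin 2) F) 0 0) h
        simp [J, pow_two, Matrix.mul_apply] at this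
        exact h2 (by linear_combination -this)
      have h3 : (J : GL (Fin 2) F) ^ (2 ^ 2) = 1 := Units.ext (by
        rw [Units.val_pow_eq_pow_val, coe_J]
        norm_num [pow_succ, M_mul]
        rw [M_scalar, one_smul])
      exact orderOf_eq_prime_pow (p := 2) (n := 1) h1 h3
    rw [← hJ]
    exact orderOf_dvd_of_mem_zpowers ⟨i, hi.symm⟩
  have hkpos : 1 ≤ k := by
    have := (isOfFinOrder_of_finite g).orderOf_pos
    omega
  obtain ⟨c, hc, hcd⟩ := exists_norm_neg_one (F := F)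
  have hJd : (J : GL (Fin 2) F) ∈ C2 F := J_mem
  set d := c⁻¹ * J with hd
  have hdC : d ∈ C2 F := mul_mem (inv_mem hc) hJd
  have hdd : GeneralLinearGroup.det d = -1 := by rw [hd, map_mul, map_inv, hcd, det_J]; simp
  let x' : Delta F := ⟨(a, a), mem_Delta.2 rfl⟩
  let y' : Delta F := ⟨(a, bar a), mem_Delta.2 (det_bar a).symm⟩
  let t' : Delta F := ⟨(R * c, R * d), mem_Delta.2 (by rw [map_mul, map_mul, hcd, hdd])⟩
  let r' : Delta F := ⟨(J, c * R), mem_Delta.2 (by rw [map_mul, hcd, det_R, det_J]; simp)⟩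
  have hRb : ∀ {v : GL (Fin 2) F}, v ∈ C2 F → R * v ∈ base F := fun hv => mul_mem R_mem (C2_le hv)
  have hbR : ∀ {v : GL (Fin 2) F}, v ∈ C2 F → v * R ∈ base F := fun hv => mul_mem (C2_le hv) R_mem
  have hxP : phiG x' ∈ P := (memP _).2 ⟨x', C2_le ha, C2_le ha, rfl⟩
  have hyP : phiG y' ∈ P := (memP _).2 ⟨y', C2_le ha, C2_le (bar_mem ha), rfl⟩
  have htP : phiG t' ∈ P := (memP _).2 ⟨t', hRb hc, hRb hdC, rfl⟩
  have hrP : phiG r' ∈ P := (memP _).2 ⟨r', C2_le hJd, hbR hc, rfl⟩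
  have sqR : ∀ {v : GL (Fin 2) F}, v ∈ C2 F → GeneralLinearGroup.det v = -1 →
      ((R * v * (R * v) : GL (Fin 2) F) : Matrix (Fin 2) (Fin 2) F) = (-1 : F) • 1 := by
    intro v hv hdv
    rw [show R * v * (R * v) = R * v * R * v by simp [mul_assoc], ← bar_apply, C2_comm (bar_mem hv) hv,
      mul_bar hv.1, hdv]
    simp
  have hbJ : bar (J : GL (Fin 2) F) = J⁻¹ := by
    rw [eq_inv_iff_mul_eq_one, C2_comm (bar_mem hJd) hJd]
    exact Units.ext (by rw [mul_bar hJd.1, det_J]; simp)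
  have hJJ : ((J * J : GL (Fin 2) F) : Matrix (Fin 2) (Fin 2) F) = (-1 : F) • 1 := by
    rw [Units.val_mul, coe_J, M_mul, ← M_scalar, M_inj]; constructor <;> ring
  have htt : phiG t' * phiG t' = 1 := by
    rw [← map_mul, phiG_eq_one]
    exact ⟨-1, sqR hc hcd, sqR hdC hdd⟩
  have hrr : phiG r' * phiG r' = 1 := by
    rw [← map_mul, phiG_eq_one]
    refine ⟨-1, hJJ, ?_⟩
    show ((c * R * (c * R) : GL (Fin 2) F) : Matrix (Fin 2) (Fin 2) F) = _
    rw [show c * R * (c * R) = c * bar c by rw [bar_apply]; simp [mul_assoc], mul_bar hc.1, hcd]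
    simp
  have hneg : ∀ v : GL (Fin 2) F, J⁻¹ * v = -(J * v) := fun v => by
    rw [← neg_mul]
    congr 1
    rw [inv_eq_iff_mul_eq_one]
    exact Units.ext (by rw [mul_neg, Units.val_neg, hJJ]; simp)
  have htr : phiG t' * phiG r' = phiG r' * phiG t' := by
    rw [← map_mul, ← map_mul]
    refine phiG_eq (-1) ?_ ?_
    · show ((R * c * J : GL (Fin 2) F) : Matrix (Fin 2) (Fin 2) F) = (-1 : F) • ((J * (R * c) : GL (Fin 2) F) : Matrix (Fin 2) (Fin 2) F)
      have e : R * c * J = J⁻¹ * (R * c) := by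
        rw [mul_assoc, C2_comm hc hJd, ← mul_assoc, R_mul, hbJ, mul_assoc]
      rw [e, hneg, Units.val_neg, neg_smul, one_smul]
    · show ((R * d * (c * R) : GL (Fin 2) F) : Matrix (Fin 2) (Fin 2) F) = (-1 : F) • ((c * R * (R * d) : GL (Fin 2) F) : Matrix (Fin 2) (Fin 2) F)
      have e1 : c * R * (R * d) = J := by
        rw [show c * R * (R * d) = c * (R * R) * d by simp [mul_assoc], R_sq, mul_one, hd, mul_inv_cancel_left]
      have e2 : R * d * (c * R) = J⁻¹ * 1 := by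
        rw [mul_one, show R * d * (c * R) = R * (d * c) * R by simp [mul_assoc], C2_comm hdC hc,
          hd, mul_inv_cancel_left, ← bar_apply, hbJ]
      rw [e1, e2, hneg, mul_one, Units.val_neg, neg_smul, one_smul]
  have hxy : phiG x' * phiG y' = phiG y' * phiG x' := by
    rw [← map_mul, ← map_mul]
    congr 1
    exact Subtype.ext (Prod.ext rfl (C2_comm ha (bar_mem ha)))
  have hinv : ∀ (p : Delta F), p.1.1 ∈ C2 F → p.1.2 ∈ C2 F → phiG t' * phiG p * phiG t' = (phiG p)⁻¹ := by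
    intro p h1 h3
    rw [eq_inv_iff_mul_eq_one, ← map_mul, ← map_mul, ← map_mul, phiG_eq_one]
    have e : ∀ {v w : GL (Fin 2) F}, v ∈ C2 F → w ∈ C2 F →
        ((R * w * v * (R * w) * v : GL (Fin 2) F) : Matrix (Fin 2) (Fin 2) F) =
          ((GeneralLinearGroup.det v : F) * (GeneralLinearGroup.det w : F)) • 1 := by
      intro v w hv hw
      rw [show R * w * v * (R * w) * v = bar (w * v) * (w * v) by rw [bar_apply]; simp [mul_assoc],
        C2_comm (bar_mem (mul_mem hw hv)) (mul_mem hw hv), mul_bar (mul_mem hw hv).1, map_mul, Units.val_mul, mul_comm]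
    refine ⟨(GeneralLinearGroup.det p.1.1 : F) * (GeneralLinearGroup.det c : F), e h1 hc, ?_⟩
    rw [show (GeneralLinearGroup.det p.1.1 : F) * (GeneralLinearGroup.det c : F) =
      (GeneralLinearGroup.det p.1.2 : F) * (GeneralLinearGroup.det d : F) by rw [mem_Delta.1 p.2, hcd, hdd]]
    exact e h3 hdC
  have hrx : phiG r' * phiG x' * phiG r' = phiG y' := by
    rw [← map_mul, ← map_mul]
    refine phiG_eq (-1) ?_ ?_
    · show ((J * a * J : GL (Fin 2) F) : Matrix (Fin 2) (Fin 2) F) = _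
      rw [mul_assoc, C2_comm ha hJd, ← mul_assoc, Units.val_mul, hJJ, smul_mul_assoc, one_mul]
    · show ((c * R * a * (c * R) : GL (Fin 2) F) : Matrix (Fin 2) (Fin 2) F) = _
      rw [show c * R * a * (c * R) = c * (R * a * R) * (R * c * R) by
          simp [mul_assoc, ← mul_assoc (R : GL (Fin 2) F) R, R_sq], ← bar_apply, ← bar_apply,
        C2_comm hc (bar_mem ha), mul_assoc, Units.val_mul, mul_bar hc.1, hcd, mul_smul_comm, mul_one]
      simp [y']
  have hzC : ∀ i j : ℤ, ((x' : Delta F) ^ i * y' ^ j).1 = (a ^ (i + j), a ^ i * bar a ^ j) := by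
    intro i j
    rw [Subgroup.coe_mul, Subgroup.coe_zpow, Subgroup.coe_zpow]
    exact Prod.ext (by simp [x', y', zpow_add]) (by simp [x', y'])
  have hag : Commute g a := C2_comm hgC ha
  have hbap : ∀ j : ℤ, bar a ^ j = g ^ j * a ^ j := fun j => by rw [hbar, hag.mul_zpow]
  have hz : ∀ i : ℤ, (∃ l : F, ((a ^ i : GL (Fin 2) F) : Matrix (Fin 2) (Fin 2) F) = l • 1) ↔ (4 * k : ℤ) ∣ i := by
    intro i
    rw [show (4 * k : ℤ) = (orderOf g : ℤ) by rw [hk]; push_cast; ring, orderOf_dvd_iff_zpow_eq_one]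
    constructor
    · rintro ⟨l, hl⟩
      have := bar_of_scalar hl
      rwa [map_zpow, hbap, mul_eq_right] at this
    · intro h
      exact scalar_of_bar h2 (zpow_mem ha.1 i) (by rw [map_zpow, hbap, h, one_mul])
  refine ⟨{ k := k, k_pos := hkpos, x := phiG x', y := phiG y', t := phiG t', r := phiG r'
            x_mem := hxP, y_mem := hyP, t_mem := htP, r_mem := hrP
            t_sq := htt, r_sq := hrr, t_r := htr, x_y := hxy
            t_x := hinv x' ha ha, t_y := hinv y' ha (bar_mem ha), r_x := hrx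
            eq_one := ?_, cover := ?_ }⟩
  · intro i j
    rw [← map_zpow, ← map_zpow, ← map_mul, phiG_eq_one, hzC]
    constructor
    · rintro ⟨l, h1, h3⟩
      have hij : (4 * k : ℤ) ∣ i + j := (hz _).1 ⟨l, h1⟩
      have hgj : g ^ j = 1 := by
        have e : a ^ i * bar a ^ j = a ^ (i + j) * g ^ j := by
          rw [hbap, (hag.zpow_zpow j j).eq, zpow_add, mul_assoc]
        have e' : a ^ (i + j) * g ^ j = a ^ (i + j) := Units.ext (by rw [← e, h3, h1])
        exact mul_eq_left.1 e'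
      have hj : (4 * k : ℤ) ∣ j := by
        rw [show (4 * k : ℤ) = (orderOf g : ℤ) by rw [hk]; push_cast; ring, orderOf_dvd_iff_zpow_eq_one]
        exact hgj
      exact ⟨by simpa using dvd_sub hij hj, hj⟩
    · rintro ⟨hi, hj⟩
      obtain ⟨l, hl⟩ := (hz _).2 (dvd_add hi hj)
      refine ⟨l, hl, ?_⟩
      have hgj : g ^ j = 1 := orderOf_dvd_iff_zpow_eq_one.1 (by
        rw [show (orderOf g : ℤ) = (4 * k : ℤ) by rw [hk]; push_cast; ring]; exact hj)
      rw [hbap, hgj, one_mul, ← zpow_add]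
      exact hl
  · intro v hv
    obtain ⟨p, h1, h3, rfl⟩ := (memP v).1 hv
    -- pairs from `C2 × C2`
    have inC : ∀ q : Delta F, q.1.1 ∈ C2 F → q.1.2 ∈ C2 F → ∃ i j : ℤ, phiG q = phiG x' ^ i * phiG y' ^ j := by
      intro q q1 q2
      have hm : bar q.1.1 * q.1.1⁻¹ ∈ C2 F := mul_mem (bar_mem q1) (inv_mem q1)
      obtain ⟨m, hm'⟩ := hpow _ hm (by rw [map_mul, map_inv, det_bar, mul_inv_cancel])
      rw [mul_inv_eq_iff_eq_mul] at hm'
      obtain ⟨j, hj⟩ := hpow (q.1.1⁻¹ * q.1.2) (mul_mem (inv_mem q1) q2)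
        (by rw [map_mul, map_inv, ← mem_Delta.1 q.2, inv_mul_cancel])
      rw [inv_mul_eq_iff_eq_mul] at hj
      obtain ⟨l, hl⟩ := scalar_of_bar h2 (mul_mem q1.1 (inv_mem (zpow_mem ha.1 m))) (show bar (q.1.1 * (a ^ m)⁻¹) = _ by
        rw [map_mul, map_inv, map_zpow, hm', hbap, mul_inv_rev, C2_comm (zpow_mem hgC m) q1, mul_assoc,
          ← mul_assoc (g ^ m), C2_comm (zpow_mem hgC m) (inv_mem (zpow_mem ha m)), mul_assoc, mul_inv_cancel, mul_one])
      refine ⟨m - j, j, ?_⟩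
      rw [← map_zpow, ← map_zpow, ← map_mul]
      have hq : (q.1.1 : Matrix (Fin 2) (Fin 2) F) = l • ((a ^ m : GL (Fin 2) F) : Matrix (Fin 2) (Fin 2) F) := by
        conv_lhs => rw [← mul_inv_cancel_right q.1.1 (a ^ m), show q.1.1 * a ^ m * (a ^ m)⁻¹ = q.1.1 * (a ^ m)⁻¹ * a ^ m by
          rw [mul_inv_cancel_right, inv_mul_cancel_right], Units.val_mul, hl, smul_mul_assoc, one_mul]
      refine phiG_eq l ?_ ?_
      · rw [hzC, sub_add_cancel]; exact hq
      · rw [hzC, hj, hbap, ← mul_assoc, ← (hag.zpow_zpow j (m - j)).eq, mul_assoc, ← zpow_add, sub_add_cancel,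
          C2_comm q1 (zpow_mem hgC j), Units.val_mul, Units.val_mul, hq, mul_smul_comm]
    have split : ∀ {v : GL (Fin 2) F}, v ∈ base F → v ∈ C2 F ∨ v * R ∈ C2 F := fun hv => hv
    have right_inv : ∀ (s v : Cfsg.Lie.G2 F), s * s = 1 → v = v * s * s := fun s v hs => by
      rw [mul_assoc, hs, mul_one]
    -- the second entry is moved by `r`
    have second : ∀ q : Delta F, q.1.1 ∈ C2 F → q.1.2 ∈ base F →
        ∃ i j : ℤ, phiG q = phiG x' ^ i * phiG y' ^ j ∨ phiG q = phiG x' ^ i * phiG y' ^ j * phiG r' := by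
      intro q q1 q2
      rcases split q2 with q2 | q2
      · obtain ⟨i, j, h⟩ := inC q q1 q2
        exact ⟨i, j, Or.inl h⟩
      · have e : q.1.2 * (c * R) = q.1.2 * R * bar c := by
          rw [bar_apply]; simp [mul_assoc, ← mul_assoc (R : GL (Fin 2) F) R, R_sq]
        obtain ⟨i, j, h⟩ := inC (q * r') (mul_mem q1 hJd) (show q.1.2 * (c * R) ∈ C2 F by
          rw [e]; exact mul_mem q2 (bar_mem hc))
        exact ⟨i, j, Or.inr (by rw [← h, map_mul, ← right_inv _ _ hrr])⟩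
    rcases split h1 with h1 | h1
    · obtain ⟨i, j, h | h⟩ := second p h1 h3
      · exact ⟨i, j, Or.inl h⟩
      · exact ⟨i, j, Or.inr (Or.inr (Or.inl h))⟩
    · obtain ⟨i, j, h | h⟩ := second (p * t') (show p.1.1 * (R * c) ∈ C2 F by
        rw [← mul_assoc]; exact mul_mem h1 hc) (mul_mem h3 (hRb hdC))
      · exact ⟨i, j, Or.inr (Or.inl (by rw [← h, map_mul, ← right_inv _ _ htt]))⟩
      · refine ⟨i, j, Or.inr (Or.inr (Or.inr ?_))⟩
        rw [htr, ← mul_assoc, ← h, map_mul, ← right_inv _ _ htt]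

/-- An element outside the abelian part does not centralise it. -/
theorem Data.inT_of_comm {G : Type*} [Group G] {S : Subgroup G} (D : Data S) {v : G} (hv : v ∈ S)
    (h : v * D.w 1 0 = D.w 1 0 * v) : D.InT v := by
  obtain ⟨i, j, hc⟩ := D.cover v hv
  simp only [Data.w_def] at hc
  have hk : (1 : ℤ) ≤ D.k := by exact_mod_cast D.k_pos
  rcases hc with rfl | rfl | rfl | rfl
  · exact ⟨i, j, rfl⟩
  all_goals exfalso
  · rw [mul_assoc, D.t_w, ← mul_assoc, ← mul_assoc, D.w_mul, D.w_mul, mul_left_inj, D.w_inj] at h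
    obtain ⟨⟨c, hc⟩, -⟩ := h
    have h4 : (4 : ℤ) ∣ 4 * D.k * c := ⟨D.k * c, by ring⟩
    omega
  · rw [mul_assoc, D.r_w, ← mul_assoc, ← mul_assoc, D.w_mul, D.w_mul, mul_left_inj, D.w_inj] at h
    obtain ⟨⟨c, hc⟩, -⟩ := h
    have h4 : (4 : ℤ) ∣ 4 * D.k * c := ⟨D.k * c, by ring⟩
    omega
  · rw [mul_assoc, D.tr_w, ← mul_assoc (D.w i j), D.w_mul, ← mul_assoc (D.w 1 0), D.w_mul, mul_left_inj, D.w_inj] at h
    obtain ⟨⟨c, hc⟩, -⟩ := h
    have h4 : (4 : ℤ) ∣ 4 * D.k * c := ⟨D.k * c, by ring⟩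
    omega

/-- The only central involution. -/
theorem Data.eq_z_of_central {G : Type*} [Group G] {S : Subgroup G} (D : Data S) {v : G} (hv : v ∈ S)
    (h2 : v * v = 1) (h1 : v ≠ 1) (hc : ∀ s ∈ S, v * s = s * v) : v = D.z := by
  rcases D.inT_invol (D.inT_of_comm hv (hc _ (D.w_mem 1 0))) h2 h1 with h | h | h
  · exact h
  all_goals exfalso
  all_goals
    have hr := hc _ D.r_mem
    rw [h] at hr
  · rw [Data.u, D.r_w, mul_left_inj, D.w_inj] at hr
    obtain ⟨⟨c, hc'⟩, -⟩ := hr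
    have : (1 : ℤ) ≤ D.k := by exact_mod_cast D.k_pos
    rcases le_or_gt c 0 with hc0 | hc0 <;> nlinarith
  · rw [Data.u', D.r_w, mul_left_inj, D.w_inj] at hr
    obtain ⟨-, c, hc'⟩ := hr
    have : (1 : ℤ) ≤ D.k := by exact_mod_cast D.k_pos
    rcases le_or_gt c 0 with hc0 | hc0 <;> nlinarith

theorem exists_sylow_data (hF : Odd (Fintype.card F)) :
    ∃ S : Sylow 2 (Cfsg.Lie.G2 F), Nonempty (Data (S : Subgroup (Cfsg.Lie.G2 F))) := by
  classical
  have h2 : (2 : F) ≠ 0 := two_ne_zero_of_odd hF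
  set T := base F with hT
  have hcard : Nat.card T = 2 ^ (Nat.card (GL (Fin 2) F)).factorization 2 := by
    rw [H52.TwoBase.card_base h2, H52.TwoBase.card_C2, H52.TwoBase.factorization_GL_two hF, pow_succ']
  let TS : Sylow 2 (GL (Fin 2) F × GL (Fin 2) F) := Sylow.ofCard (T.prod T) (by
    rw [Nat.card_congr (Subgroup.prodEquiv T T).toEquiv, Nat.card_prod, hcard, Nat.card_prod,
      Nat.factorization_mul Nat.card_pos.ne' Nat.card_pos.ne', Finsupp.add_apply, pow_add])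
  have hTS : (TS : Subgroup (GL (Fin 2) F × GL (Fin 2) F)) = T.prod T := Sylow.coe_ofCard _ _
  have : (Delta F).Normal := MonoidHom.normal_ker _
  obtain ⟨TD, hTD⟩ := sylow_subgroupOf TS (Delta F)
  set P := (TD : Subgroup (Delta F)).map phiG with hP
  have memP : ∀ v, v ∈ P ↔ ∃ p : Delta F, p.1.1 ∈ T ∧ p.1.2 ∈ T ∧ phiG p = v := by
    intro v
    rw [hP, Subgroup.mem_map]
    simp only [hTD, Subgroup.mem_subgroupOf, hTS, Subgroup.mem_prod, and_assoc]
  obtain ⟨D⟩ := exists_data_image h2 P memP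
  set z := phiG (zD F) with hz
  have hzP : z ∈ P := (memP z).2 ⟨zD F, one_mem _, Cfsg.Agent.H87.Oct.neg_one_mem_base, rfl⟩
  have hzD : z = D.z := by
    refine D.eq_z_of_central hzP ?_ ?_ ?_
    · rw [hz, ← map_mul, phiG_eq_one]
      exact ⟨1, by simp [zD], by simp [zD]⟩
    · rw [hz, Ne, phiG_eq_one]
      rintro ⟨l, h1, h3⟩
      have e1 := congrFun (congrFun h1 0) 0
      have e3 := congrFun (congrFun h3 0) 0
      simp [zD] at e1 e3
      exact h2 (by linear_combination e1 - e3)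
    · intro s hs
      obtain ⟨p, -, -, rfl⟩ := (memP s).1 hs
      rw [hz, ← map_mul, ← map_mul]
      exact congrArg phiG (Subtype.ext (Prod.ext (by simp [zD]) (by simp [zD])))
  obtain ⟨S, hS⟩ := (TD.2.map phiG : IsPGroup 2 P).exists_le_sylow
  let PR := TD.mapSurjective (phiG (F := F)).rangeRestrict_surjective
  have hPR : (PR : Subgroup (phiG (F := F)).range).map (phiG (F := F)).range.subtype = P := by
    rw [Sylow.coe_mapSurjective, Subgroup.map_map, hP]
    rfl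
  have hmax : (S : Subgroup (Cfsg.Lie.G2 F)) ⊓ (phiG (F := F)).range ≤ P := by
    have h1 : (PR : Subgroup (phiG (F := F)).range) ≤
        (S : Subgroup (Cfsg.Lie.G2 F)).subgroupOf (phiG (F := F)).range := fun v hv => hS (hPR.le ⟨v, hv, rfl⟩)
    have h3 := PR.3 (S.2.comap_of_injective _ (Subgroup.subtype_injective _)) h1
    intro v hv
    have hmem : (⟨v, hv.2⟩ : (phiG (F := F)).range) ∈
        (S : Subgroup (Cfsg.Lie.G2 F)).subgroupOf (phiG (F := F)).range := hv.1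
    exact hPR.le ⟨_, h3.le hmem, rfl⟩
  have heq : (S : Subgroup (Cfsg.Lie.G2 F)) = P := by
    by_contra hne
    have : Group.IsNilpotent (S : Subgroup (Cfsg.Lie.G2 F)) := S.2.isNilpotent
    have hlt : P.subgroupOf S < ⊤ := lt_top_iff_ne_top.2 fun e => hne (le_antisymm
      (fun v hv => (Subgroup.eq_top_iff' _).1 e ⟨v, hv⟩) hS)
    obtain ⟨g, hgN, hgP⟩ := SetLike.exists_of_lt (Group.normalizerCondition_of_isNilpotent _ hlt)
    have hconj : ∀ v, v ∈ P → (g : Cfsg.Lie.G2 F) * v * (g : Cfsg.Lie.G2 F)⁻¹ ∈ P := fun v hv =>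
      (Subgroup.mem_normalizer_iff.1 hgN ⟨v, hS hv⟩).1 hv
    have hconj' : ∀ v, v ∈ P → (g : Cfsg.Lie.G2 F)⁻¹ * v * (g : Cfsg.Lie.G2 F) ∈ P := fun v hv => by
      have := (Subgroup.mem_normalizer_iff.1 (inv_mem hgN) ⟨v, hS hv⟩).1 hv
      simpa [Subgroup.mem_subgroupOf] using this
    obtain ⟨hd2, hd1⟩ := conj_invol (isConj_iff.2 ⟨(g : Cfsg.Lie.G2 F), rfl⟩ : IsConj D.z _) D.z_sq D.z_ne_one
    have hgz : (g : Cfsg.Lie.G2 F) * D.z * (g : Cfsg.Lie.G2 F)⁻¹ = D.z := by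
      refine D.eq_z_of_central (hconj _ (D.w_mem _ _)) hd2 hd1 fun s hs => ?_
      have h1 := congrArg (fun u => (g : Cfsg.Lie.G2 F) * u * (g : Cfsg.Lie.G2 F)⁻¹) (D.z_comm (hconj' _ hs))
      simpa [mul_assoc] using h1.symm
    rw [← hzD] at hgz
    exact hgP (hmax ⟨g.2, mem_range_of_comm h2 (mul_inv_eq_iff_eq_mul.1 hgz)⟩)
  exact ⟨S, ⟨D.ofEquiv (MulEquiv.subgroupCongr heq.symm)⟩⟩

end Cfsg.Agent.H48.GTwoFusion
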